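import Groth.Agent.Par.K545.Tools
import Groth.Agent.Sga3B.Par.LevFin622
import Groth.Agent.Sga3B.SplitFin885

/-!
# The subgroups `P_G(λ)`, `U_G(λ)`, `Z_G(λ)` of a reductive group, unconditionally
-/

set_option autoImplicit false

universe u

open CategoryTheory MonoidalCategory CartesianMonoidalCategory MonObj GrpObj AlgebraicGeometry

namespace K545.Dyn

open Groth.Agent.Sga3B Groth.Agent.Sga3B.Parab

variable {S : Scheme.{u}} {G P L U : Over S} [GrpObj G] [GrpObj P] [GrpObj L] [GrpObj U]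

/-- `P_G(λ)` is parabolic with unipotent radical `U_G(λ)` and Levi subgroup `Z_G(λ)`. -/
theorem exists_all (hG : Red.IsReductive G) (lam : Red.Gm S ⟶ G) [IsMonHom lam] :
    ∃ (P U Z : Over S) (_ : GrpObj P) (_ : GrpObj U) (_ : GrpObj Z) (p : P ⟶ G) (u : U ⟶ P)
      (z : Z ⟶ P), IsDynP lam p ∧ IsDynU lam (u ≫ p) ∧ IsDynZ lam (z ≫ p) ∧ Red.IsParabolic p ∧
      Par.IsUnipotentRadical u ∧ Par.IsLevi z := by
  have h1 := hG.1
  obtain ⟨P, _, p, hp, -⟩ := DynExist998.exists_isDynP lam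
  obtain ⟨U, Z, _, _, u, z, h⟩ := Par.LeviOfDyn383.exists_all DynGeom678.dynGeomU Uncond688.dynK1
    K3b143.dynK3 hG lam p hp
  exact ⟨P, U, Z, inferInstance, inferInstance, inferInstance, p, u, z, hp, h⟩

/-- A given `P_G(λ)` is parabolic with unipotent radical `U_G(λ)` and Levi subgroup `Z_G(λ)`. -/
theorem of_isDynP (hG : Red.IsReductive G) {lam : Red.Gm S ⟶ G} [IsMonHom lam] {p : P ⟶ G}
    (hp : IsDynP lam p) : ∃ (U Z : Over S) (_ : GrpObj U) (_ : GrpObj Z) (u : U ⟶ P)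
      (z : Z ⟶ P), IsDynU lam (u ≫ p) ∧ IsDynZ lam (z ≫ p) ∧ Red.IsParabolic p ∧
      Par.IsUnipotentRadical u ∧ Par.IsLevi z :=
  Par.LeviOfDyn383.exists_all DynGeom678.dynGeomU Uncond688.dynK1 K3b143.dynK3 hG lam p hp

/-- Over an affine base a parabolic subgroup is `P_G(λ)`. -/
theorem exists_cochar {A : Type u} [CommRing A] {G P : Over (Spec (CommRingCat.of A))} [GrpObj G]
    [GrpObj P] (hG : Red.IsReductive G) {p : P ⟶ G} (hP : Red.IsParabolic p) :
    ∃ lam : Red.Gm (Spec (CommRingCat.of A)) ⟶ G, IsMonHom lam ∧ IsDynP lam p :=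
  Par.LevFin622.exists_cochar SplitFin885.splitTStmt hG p hP

end K545.Dyn
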