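import Groth.Agent.RedSub.K197.RadSplit
import Groth.Agent.RedSub.K197.Rad
import Groth.Agent.RedSub.K197.LocP
import Groth.Agent.SGA3x.K10.MTLoc
import Groth.Agent.RedSub.K198.Rad
import Groth.Agent.Sga3B.SplitFin885
import Groth.Agent.S4148

/-!
# The centre and the radical of a reductive group over an arbitrary base

* `centre_split`: the centre of a split group is `D_S(M / Q)`, `Q` the root lattice;
* `isMultTypeFT_centre`: the centre is of multiplicative type;
* `exists_centre`, `exists_radical`: existence of the centre and of the radical.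
-/

set_option autoImplicit false

universe u

open CategoryTheory MonoidalCategory CartesianMonoidalCategory MonObj GrpObj AlgebraicGeometry

namespace K545.Centre

open Groth.Agent Groth.Agent.Sga3B Groth.Agent.Sga3B.DSPts K197 K197.RadLat K197.RadSplit

variable {S : Scheme.{u}} {G Z : Over S} [GrpObj G] [GrpObj Z]

/-- the inclusion of the centre of a split group -/
noncomputable def cenI (D : Red.SplitRed G) : Red.DS S (D.M ⧸ QQ D.P) ⟶ G :=
  Red.DSmap S (QuotientAddGroup.mk' (QQ D.P)) ≫ D.split.inv.hom.hom ≫ D.i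

lemma mono_cenI (D : Red.SplitRed G) : Mono (cenI D) := by
  have h1 := BorSpan613.mono_DSmap S (QuotientAddGroup.mk' (QQ D.P)) (QuotientAddGroup.mk'_surjective _)
  have h2 : IsIso D.split.inv.hom.hom := inferInstanceAs (IsIso ((Grp.forget _).map D.split.inv))
  have h3 : Mono D.i := D.maximalTorus.2.1
  rw [cenI]
  infer_instance

lemma isMonHom_cenI (D : Red.SplitRed G) : IsMonHom (cenI D) := by
  have h1 := BorSpan613.isMonHom_DSmap S (QuotientAddGroup.mk' (QQ D.P))
  have h3 : IsMonHom D.i := D.maximalTorus.1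
  rw [cenI]
  infer_instance

/-- The centre of a split group is `D_S(M / Q)`. -/
theorem centre_split (D : Red.SplitRed G) (j : Z ⟶ G) (hZ : Red.IsCentre j) :
    Nonempty (Grp.mk Z ≅ Grp.mk (Red.DS S (D.M ⧸ QQ D.P))) := by
  have hj : IsMonHom j := hZ.1
  have hjm : Mono j := hZ.2.1
  have hc := mono_cenI D
  have hch := isMonHom_cenI D
  -- `D_S(M / Q)` is central
  obtain ⟨t, ht⟩ : ∃ t : Red.DS S (D.M ⧸ QQ D.P) ⟶ Z, t ≫ j = cenI D := by
    refine (hZ.2.2 _ _).2 fun X' x h => ?_
    have h1 := (S2962.result D (Red.DS S (D.M ⧸ QQ D.P)) (cenI D)).2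
      ⟨Red.DSmap S (QuotientAddGroup.mk' (QQ D.P)) ≫ D.split.inv.hom.hom, by
        rw [cenI, Category.assoc], ?_⟩ X' x h
    · rwa [Category.comp_id]
    · have h5 : D.split.inv.hom.hom ≫ D.split.hom.hom.hom = 𝟙 _ :=
        congrArg (fun f => f.hom.hom) D.split.inv_hom_id
      intro a
      rw [Category.assoc, reassoc_of% h5]
      refine (comp_QQ_eq_one_iff _ D.P).1 ?_ a
      rw [BorSpan613.DSmap_comp_DSmap]
      refine DSExact.DSmap_eq_one _ fun m => ?_
      exact (QuotientAddGroup.eq_zero_iff _).2 m.2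
  -- the centre is contained in `D_S(M / Q)`
  obtain ⟨w, hw⟩ : ∃ w : Z ⟶ Red.DS S (D.M ⧸ QQ D.P), w ≫ cenI D = j := by
    obtain ⟨t, ht, hta⟩ := (S2962.result D Z j).1 (fun X' x h => by
      have := central_of_isCentre hZ x X' (𝟙 _) h
      simpa using this)
    have h1 : (t ≫ D.split.hom.hom.hom) ≫ Red.DSmap S (QQ D.P).subtype = 1 := by
      rw [comp_QQ_eq_one_iff]
      intro a
      rw [Category.assoc]
      exact hta a
    obtain ⟨w, hw⟩ := DSExact.exists_lift (QQ D.P).subtype (QuotientAddGroup.mk' (QQ D.P))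
      (QuotientAddGroup.mk'_surjective _)
      (fun m hm => ⟨⟨m, (QuotientAddGroup.eq_zero_iff m).1 hm⟩, rfl⟩) _ h1
    refine ⟨w, ?_⟩
    have h6 : D.split.hom.hom.hom ≫ D.split.inv.hom.hom = 𝟙 _ :=
      congrArg (fun f => f.hom.hom) D.split.hom_inv_id
    rw [cenI, reassoc_of% hw, reassoc_of% h6, ht]
  have hwh : IsMonHom w := isMonHom_of_comp w (cenI D) (by rw [hw]; exact hj)
  let e : Z ≅ Red.DS S (D.M ⧸ QQ D.P) := ⟨w, t, by
    rw [← cancel_mono j, Category.assoc, ht, hw, Category.id_comp], by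
    rw [← cancel_mono (cenI D), Category.assoc, hw, ht, Category.id_comp]⟩
  have : IsMonHom e.hom := hwh
  exact ⟨Grp.mkIso' e⟩

/-- The centre of a reductive group is of multiplicative type. -/
theorem isMultTypeFT_centre (hG : Red.IsReductive G) (j : Z ⟶ G) (hZ : Red.IsCentre j) :
    SGA3x.IsMultTypeFT Z := by
  refine K10.MTLoc.of_etale_split fun s => ?_
  obtain ⟨U, f, hf, hs, D, -⟩ := SplitFin885.splitNear G hG s
  have hfg : AddGroup.FG D.M := Module.Finite.iff_addGroup_fg.1 inferInstance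
  refine ⟨U, f, D.M ⧸ QQ D.P, inferInstance, hf, hs, inferInstance, ?_⟩
  exact centre_split D _ (LocP.isCentre_bc f hZ)

/-- The centre exists. -/
theorem exists_centre (hG : Red.IsReductive G) :
    ∃ (Z : Over S) (_ : GrpObj Z) (j : Z ⟶ G), Red.IsCentre j ∧ IsClosedImmersion j.left ∧
      SGA3x.IsMultTypeFT Z := by
  have h1 : IsAffineHom G.hom := hG.1
  have h2 : Smooth G.hom := hG.2.1
  have h3 := MaxTorBc505.geometricallyIrreducible hG
  have h4 : IsClosedImmersion (𝟙 G : G ⟶ G).left := inferInstanceAs (IsClosedImmersion (𝟙 G.left))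
  obtain ⟨Z, _, j, hj, hc, -⟩ := CentRep.exists_centralizer (G := G) (𝟙 G)
  exact ⟨Z, inferInstance, j, hc, hj, isMultTypeFT_centre hG j hc⟩

/-- The radical exists. -/
theorem exists_radical (hG : Red.IsReductive G) :
    ∃ (Z R : Over S) (_ : GrpObj Z) (_ : GrpObj R) (j : Z ⟶ G) (r : R ⟶ Z), Red.IsCentre j ∧
      IsClosedImmersion j.left ∧ Red.IsMaximalTorus r := by
  obtain ⟨Z, _, j, hj, hc, hm⟩ := exists_centre hG
  obtain ⟨R, _, r, hr, -⟩ := S4148.result S Z hm
  exact ⟨Z, R, inferInstance, inferInstance, j, r, hj, hc, hr⟩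

end K545.Centre
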