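import Groth.Agent.Sga3B.Parab.LeviDesc147
import Groth.Agent.Sga3B.Parab.Uncond688
import Groth.Agent.Sga3B.RedBcAny636

/-!
# Unipotent radicals and Levi subgroups of parabolic subgroups: arbitrary base change
-/

set_option autoImplicit false

universe u

open CategoryTheory MonoidalCategory CartesianMonoidalCategory MonObj GrpObj AlgebraicGeometry

namespace K545.BC

open Groth.Agent.Sga3B Groth.Agent.Sga3B.Parab GeomBC147 GeomFib147 RedCover147 EtSub ConjPt
  RadExist147 LeviDesc147

variable {S S' : Scheme.{u}} {G P U L : Over S} [GrpObj G] [GrpObj P] [GrpObj U] [GrpObj L]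

/-- A parabolic subgroup is, étale locally, `P_G(λ)`; the unipotent radical is then `U_G(λ)`,
also after a further arbitrary base change. -/
theorem exists_dyn (hG : Red.IsReductive G) {p : P ⟶ G} (hp : Red.IsParabolic p) {v : U ⟶ P}
    (hv : Par.IsUnipotentRadical v) (f : S' ⟶ S) (s' : S') :
    ∃ (T : Scheme.{u}) (q : T ⟶ S'), Etale q ∧ s' ∈ Set.range q ∧
      ∃ lam : Red.Gm T ⟶ Red.bc q (Red.bc f G), IsMonHom lam ∧
        IsDynP lam ((Over.pullback q).map ((Over.pullback f).map p)) ∧
        IsDynU lam ((Over.pullback q).map ((Over.pullback f).map (v ≫ p))) := by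
  obtain ⟨S₁, g, hg, ⟨s₁, hs₁⟩, lam, hlam, h⟩ := Uncond688.radPcP p hG hp (f s')
  obtain ⟨t, ht1, -⟩ := Scheme.Pullback.exists_preimage_pullback (f := f) (g := g) s' s₁ hs₁.symm
  have hU := isDynU_bc Uncond688.radPcU Uncond688.radPcP hG hp hv g lam h
  have hsq : Limits.pullback.snd f g ≫ g = Limits.pullback.fst f g ≫ f :=
    Limits.pullback.condition.symm
  exact ⟨Limits.pullback f g, Limits.pullback.fst f g, inferInstance, ⟨t, ht1⟩,
    bcLam lam (Limits.pullback.snd f g) ≫ (sqIso hsq G).hom.hom.hom, inferInstance,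
    DynIso147.isDynP_of_iso (sqIso hsq P) (sqIso hsq G) (sqIso_natural hsq p)
      (IsDynP.bc (f := Limits.pullback.snd f g) h),
    DynIso147.isDynU_of_iso (sqIso hsq U) (sqIso hsq G) (sqIso_natural hsq (v ≫ p))
      (IsDynU.bc (f := Limits.pullback.snd f g) hU)⟩

/-- The unipotent radical of a parabolic subgroup commutes with any base change. -/
theorem isUnipotentRadical_bc (hG : Red.IsReductive G) {p : P ⟶ G} (hp : Red.IsParabolic p)
    {v : U ⟶ P} (hv : Par.IsUnipotentRadical v) (f : S' ⟶ S) :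
    Par.IsUnipotentRadical ((Over.pullback f).map v) := by
  have := hv.1
  obtain ⟨J, T, q, hq, hcov, hQ⟩ := exists_isEtCov (exists_dyn hG hp hv f)
  refine isUnipotentRadical_of_cover hcov inferInstance fun i => ?_
  obtain ⟨lam, hlam, h1, h2⟩ := hQ i
  rw [Functor.map_comp, Functor.map_comp] at h2
  have := hcov.qf i
  exact isUnipotentRadical_of_isDynU Uncond688.radPcU
    (RedCover147.isReductive_bc _ (RedBcAny636.isReductive_bc f hG)) h1 h2

/-- A Levi subgroup of a parabolic subgroup commutes with any base change. -/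
theorem isLevi_bc (hG : Red.IsReductive G) {p : P ⟶ G} (hp : Red.IsParabolic p)
    {l : L ⟶ P} (hl : Par.IsLevi l) (f : S' ⟶ S) :
    Par.IsLevi ((Over.pullback f).map l) := by
  obtain ⟨V, _, v, hv, -⟩ := exists_rad Uncond688.radPcU Uncond688.radPcP hG hp
  have h1 := Par.LeviProj.isSemi_of_isLevi hl hv
  have h2 := Par.LocBC.IsSemi.bc h1 f
  have := hl.1
  have := hl.2.1
  exact ⟨inferInstance, inferInstance, RedBcAny636.isReductive_bc f hl.2.2.1, Red.bc f V,
    inferInstance, (Over.pullback f).map v, isUnipotentRadical_bc hG hp hv f, h2.iso⟩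

end K545.BC
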