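import Groth.Agent.Par.K545.ConjTools
import Groth.Agent.Par.K545.BC
import Groth.Agent.Sga3B.Parab.OppFin151
import Groth.Agent.S2999

/-!
# Unconditional forms: unipotent radical, opposite parabolic, étale local dynamic form
-/

set_option autoImplicit false

universe u

open CategoryTheory MonoidalCategory CartesianMonoidalCategory MonObj GrpObj AlgebraicGeometry

namespace K545.Tools

open Groth.Agent.Sga3B Groth.Agent.Sga3B.Parab

variable {S : Scheme.{u}} {G P L U : Over S} [GrpObj G] [GrpObj P] [GrpObj L] [GrpObj U]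

theorem parConn : OppMain151.ParConn.{u} := OppFin151.parConn_of Uncond688.dynK2

theorem pcL : OppMain151.PcL.{u} := OppFin151.pcL_of K3b143.dynK3 Uncond688.radPcP

/-- A homomorphism can be tested after composition with a monomorphism. -/
theorem isMonHom_of_comp {A B C : Over S} [GrpObj A] [GrpObj B] [GrpObj C] {f : A ⟶ B} {g : B ⟶ C}
    {h : A ⟶ C} (e : f ≫ g = h) [IsMonHom g] [Mono g] [IsMonHom h] : IsMonHom f := by
  subst e
  exact DynLevi998.isMonHom_of_comp_mono (p := g)

theorem mono_of_isParabolic {p : P ⟶ G} (hp : Red.IsParabolic p) : Mono p := by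
  have : IsClosedImmersion p.left := hp.2.1
  exact Over.mono_of_mono_left p

/-- Every parabolic subgroup of a reductive group has a unipotent radical. -/
theorem exists_rad (hG : Red.IsReductive G) {p : P ⟶ G} (hP : Red.IsParabolic p) :
    ∃ (U : Over S) (_ : GrpObj U) (u : U ⟶ P), Par.IsUnipotentRadical u := by
  obtain ⟨U, _, u, hu, -⟩ := RadExist147.exists_rad Uncond688.radPcU Uncond688.radPcP hG hP
  exact ⟨U, _, u, hu⟩

/-- The opposite parabolic subgroup relative to a Levi subgroup. -/
theorem exists_opp (hG : Red.IsReductive G) {p : P ⟶ G} (hP : Red.IsParabolic p) {l : L ⟶ P}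
    (hl : Par.IsLevi l) : ∃ (Q : Over S) (_ : GrpObj Q) (q : Q ⟶ G) (m : L ⟶ Q),
      Red.IsParabolic q ∧ IsMonHom m ∧ IsPullback l m p q ∧ Par.IsLevi m := by
  obtain ⟨⟨Q, _, q, m, hq, hpb⟩, -⟩ := Groth.Agent.S2999.result G P L hG p hP l hl
  obtain ⟨U, _, u, hU⟩ := exists_rad hG hP
  have := hq.1
  have := mono_of_isParabolic hq
  have := hl.1
  have := hP.1
  have hm : IsMonHom m := isMonHom_of_comp (g := q) (h := l ≫ p) hpb.w.symm
  exact ⟨Q, _, q, m, hq, hm, hpb, OppMain151.isLevi_snd pcL Uncond688.radPcU Uncond688.radPcP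
    parConn hG hP hq hU hpb hl hm⟩

end K545.Tools
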