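import Groth.Agent.Par.K545.Centre
import Groth.Agent.Par.K545.BC
import Groth.Agent.Par.K545.Tools
import Groth.Agent.RedSub.H663.DynPair
import Groth.Agent.Sga3B.CentNorm900
import Groth.Agent.Sga3B.MaxTorNear900
import Groth.Agent.RedSub.H648.BorBc

/-!
# A Levi subgroup of a parabolic subgroup is the centralizer of its radical
-/

set_option autoImplicit false

universe u

open CategoryTheory MonoidalCategory CartesianMonoidalCategory MonObj GrpObj AlgebraicGeometry

namespace K545.LeviCent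

open Groth.Agent Groth.Agent.Sga3B Groth.Agent.Sga3B.Parab

theorem comm_of_isTorus {S : Scheme.{u}} {Q G : Over S} [GrpObj Q] [GrpObj G] (hQ : Red.IsTorus Q)
    (q : Q ⟶ G) (hq : IsMonHom q) {X : Over S} (x h : X ⟶ Q) :
    (x ≫ q) * (h ≫ q) = (h ≫ q) * (x ≫ q) := by
  rw [← MonObj.mul_comp, MaxTorNear900.mul_comm_of_isTorus hQ, MonObj.mul_comp]

section affine

variable {A : Type u} [CommRing A] {G P L Z R : Over (Spec (CommRingCat.of A))} [GrpObj G] [GrpObj P]
  [GrpObj L] [GrpObj Z] [GrpObj R]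

theorem isTorus_Gm (S : Scheme.{u}) : Red.IsTorus (Red.Gm S) :=
  K197.RadSplit.isTorus_DS S ℤ

/-- Over an affine base, `L` is the centralizer of a homomorphism `𝔾ₘ ⟶ rad L`. -/
theorem exists_cochar_rad (hG : Red.IsReductive G) {p : P ⟶ G} (hP : Red.IsParabolic p) {l : L ⟶ P}
    (hl : Par.IsLevi l) {j : Z ⟶ L} (hZ : Red.IsCentre j) {r : R ⟶ Z} (hR : Red.IsMaximalTorus r) :
    ∃ lam : Red.Gm (Spec (CommRingCat.of A)) ⟶ R, IsMonHom lam ∧
      Red.IsCentralizerOf (lam ≫ r ≫ j ≫ l ≫ p) (l ≫ p) ∧ IsDynP (lam ≫ r ≫ j ≫ l ≫ p) p := by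
  obtain ⟨lam, hlam, h1, h2⟩ := RedSub.H663.DynPair.exists_cochar_levi hG p hP l hl
  have h2 := (DynExist998.isDynZ_iff (l ≫ p)).1 h2
  have hGm := isTorus_Gm (Spec (CommRingCat.of A))
  have hpm := hP.1
  have hlm := hl.1
  have hlr := hl.2.2.1
  have hjm := hZ.1
  have hjmono := hZ.2.1
  have hrm := hR.1
  have hrmono := hR.2.1
  have hmono := h2.2.1
  obtain ⟨a, ha⟩ := (h2.2.2 _ lam).2 fun X' x h => comm_of_isTorus hGm lam hlam x h
  have ham : IsMonHom a := K197.RadSplit.isMonHom_of_comp a (l ≫ p) (by rw [ha]; exact hlam)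
  obtain ⟨b, hb⟩ := (hZ.2.2 _ a).2 fun X' x h => by
    have h3 := (h2.2.2 X' (h ≫ l ≫ p)).1 ⟨h, rfl⟩ X' (𝟙 _) x
    rw [Category.id_comp] at h3
    rw [Category.comp_id, ← cancel_mono (l ≫ p), MonObj.mul_comp, MonObj.mul_comp, Category.assoc, ha]
    exact h3.symm
  have hbm : IsMonHom b := K197.RadSplit.isMonHom_of_comp b j (by rw [hb]; exact ham)
  obtain ⟨c, hc⟩ := K197.Rad.exists_le_rad hlr hZ hR hGm b
  have hcm : IsMonHom c := K197.RadSplit.isMonHom_of_comp c r (by rw [hc]; exact hbm)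
  have he : c ≫ r ≫ j ≫ l ≫ p = lam := by
    rw [← Category.assoc, hc, ← Category.assoc, hb, ha]
  exact ⟨c, hcm, by rw [he]; exact h2, by rw [he]; exact h1⟩

end affine

variable {S : Scheme.{u}} {G P L Z R : Over S} [GrpObj G] [GrpObj P] [GrpObj L] [GrpObj Z] [GrpObj R]

/-- **A Levi subgroup is the centralizer of its radical.** -/
theorem isCentralizerOf_radical (hG : Red.IsReductive G) {p : P ⟶ G} (hP : Red.IsParabolic p)
    {l : L ⟶ P} (hl : Par.IsLevi l) {j : Z ⟶ L} (hZ : Red.IsCentre j) {r : R ⟶ Z}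
    (hR : Red.IsMaximalTorus r) : Red.IsCentralizerOf (r ≫ j ≫ l ≫ p) (l ≫ p) := by
  have hpm := hP.1
  have hlm := hl.1
  have hlmono := hl.2.1
  have hjm := hZ.1
  have hjmono := hZ.2.1
  have hrm := hR.1
  have hrmono := hR.2.1
  have hpmono := Tools.mono_of_isParabolic hP
  have hGa : IsAffineHom G.hom := hG.1
  have hGs : Smooth G.hom := hG.2.1
  obtain ⟨⟨Z', _, z', hz', -⟩, -⟩ :=
    CentNorm900.exists_centralizer_normalizer_torus hR.2.2.1 (r ≫ j ≫ l ≫ p)
  have hz'mono := hz'.2.1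
  -- the centralizer of the radical lies in `L`
  obtain ⟨b, hb⟩ := K197.LocP.exists_fac (l ≫ p) z' fun s => by
    obtain ⟨V, hV, hs, -⟩ := exists_isAffineOpen_mem_and_subset (x := s) (U := (⊤ : S.Opens)) trivial
    let A : Type u := Γ(S, V)
    let f : Spec (CommRingCat.of A) ⟶ S := hV.fromSpec
    have hf : IsOpenImmersion f := inferInstanceAs (IsOpenImmersion hV.fromSpec)
    refine ⟨_, f, inferInstance, inferInstance, ?_, ?_⟩
    · change s ∈ Set.range hV.fromSpec
      rw [hV.range_fromSpec]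
      exact hs
    · obtain ⟨lam, hlam, h1, -⟩ := exists_cochar_rad (RedBcAny636.isReductive_bc f hG)
        (RedSub.H648.BorBc.isParabolic_bc f hG hP) (BC.isLevi_bc hG hP hl f)
        (K197.LocP.isCentre_bc f hZ) (AlgBc.isMaximalTorus_bc f hR)
      have h2 := SplitBc264.isCentralizerOf_bc (f := f) hz'
      rw [← Functor.map_comp] at h1
      refine (h1.2.2 _ _).2 fun X' x h => ?_
      have h3 := (h2.2.2 X' (x ≫ (Over.pullback f).map z')).1 ⟨x, rfl⟩ X' (𝟙 _) (h ≫ lam)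
      simp only [Category.id_comp, Functor.map_comp, Category.assoc] at h3 ⊢
      exact h3
  obtain ⟨a, ha⟩ := (hz'.2.2 _ (l ≫ p)).2 fun X' x h => by
    have h1 := K197.RadSplit.central_of_isCentre hZ (h ≫ r) X' (𝟙 _) x
    have h2 := congrArg (fun t => t ≫ l ≫ p) h1
    simp only [MonObj.mul_comp, Category.assoc, Category.id_comp] at h2
    simpa only [Category.assoc] using h2.symm
  refine ⟨inferInstance, inferInstance, fun X g => ?_⟩
  rw [← hz'.2.2 X g]
  constructor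
  · rintro ⟨x, rfl⟩
    exact ⟨x ≫ a, by rw [Category.assoc, ha]⟩
  · rintro ⟨x, rfl⟩
    exact ⟨x ≫ b, by rw [Category.assoc, hb]⟩

end K545.LeviCent
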