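import Groth.Agent.Par.K545.CochAlg
import Groth.Agent.Sga3B.Par.RCHom742
import Groth.Agent.Sga3B.Par.LeviAsm742
import Groth.Agent.Sga3B.Par.TPrime827
import Groth.Agent.RedSub.H664.Calc3
import Groth.Agent.Sga3B.AffHopf

/-!
# Cocharacters over a connected affine base

A cocharacter of a smooth affine group over a connected affine base is trivial or a non-zero
multiple of a cocharacter which is a closed immersion.
-/

set_option autoImplicit false

universe u

open CategoryTheory MonoidalCategory CartesianMonoidalCategory MonObj GrpObj AlgebraicGeometry Limits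
open scoped LaurentPolynomial Polynomial TensorProduct
open WithConv
open Groth.Agent.Books.AffBridge Groth.Agent.Books.DynBasic Groth.Agent.Books.DynLim
open Groth.Agent.Sga3B Groth.Agent.Sga3B.Parab Groth.Agent.Sga3B.Parab.Chart998
open Groth.Agent.Sga3B.Parab.AffPts998 Groth.Agent.Sga3B.Parab.Dyn998
open Groth.Agent.Sga3B.Parab.DynExist998 Groth.Agent.Sga3B.Parab.DynBc998
open Groth.Agent.Sga3B.Par.RelCoch742 Groth.Agent.Sga3B.Par.PiCoch742
open Groth.Agent.Sga3B.Par.RCOver742 Groth.Agent.Sga3B.Par.RCHom742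
open Groth.Agent.RedSub.H664.Comb Groth.Agent.RedSub.H664.Calc3 Groth.Agent.RedSub.H664.Calc2

namespace K545.CochImage

open Groth.Agent.Sga3B.Par.LeviAsm742 Groth.Agent.Sga3B.Parab.OrbM156

variable {A : Type u} [CommRing A] {G : Over (Spec (CommRingCat.of A))} [GrpObj G]

section OfB

variable {H : Type u} [CommRing H] [HopfAlgebra A H] (e : G ≅ SpecOver A H) [IsMonHom e.hom]

/-- The homomorphism attached to a map of algebras. -/
noncomputable def ofB (φ : H →ₐ[A] A[T;T⁻¹]) : Red.Gm (Spec (CommRingCat.of A)) ⟶ G :=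
  inv (tPt A (𝟙 (Spec (CommRingCat.of A)))) ≫
    pt (chartId e) (hcL (hcR (r := 𝟙 (Spec (CommRingCat.of A))))) φ

lemma lamAlg_ofB (φ : H →ₐ[A] A[T;T⁻¹]) : lamAlg (ofB e φ) (chartId e) = φ := by
  apply (pt_bijective (chartId e) (hcL (hcR (r := 𝟙 (Spec (CommRingCat.of A)))))).1
  rw [pt_lamAlg, ofB, IsIso.hom_inv_id_assoc]

lemma isRC_coe (φ : H →ₐc[A] A[T;T⁻¹]) : IsRC (toConv (φ : H →ₐ[A] A[T;T⁻¹])) := by
  intro C _ _ σ x y
  have h1 : ∀ x : Cˣ, val (toConv (φ : H →ₐ[A] A[T;T⁻¹])) σ x = lamU φ x := by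
    intro x
    have h2 : evL σ x = evU A x := by
      apply algHom_ext_T
      rw [evL_T, evU_T]
    rw [val, h2]
    rfl
  rw [h1, h1, h1, map_mul]

lemma isMonHom_ofB (φ : H →ₐc[A] A[T;T⁻¹]) : IsMonHom (ofB e (φ : H →ₐ[A] A[T;T⁻¹])) :=
  isMonHom_ofRC (idM e) (isRC_coe φ)

lemma isClosedImmersion_ofB {φ : H →ₐ[A] A[T;T⁻¹]} (hφ : Function.Surjective φ) :
    IsClosedImmersion (ofB e φ).left := by
  have h1 : IsClosedImmersion (Spec.map (CommRingCat.ofHom φ.toRingHom)) :=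
    IsClosedImmersion.spec_of_surjective _ hφ
  have h2 : (pt (chartId e) (hcL (hcR (r := 𝟙 (Spec (CommRingCat.of A))))) φ).left =
      Spec.map (CommRingCat.ofHom φ.toRingHom) ≫ e.inv.left := by
    let t : gmo A (𝟙 (Spec (CommRingCat.of A))) ⟶
        aff A[T;T⁻¹] (Spec.map (CommRingCat.ofHom (algebraMap A A[T;T⁻¹]))) :=
      Over.homMk (𝟙 _) (by
        change 𝟙 _ ≫ _ = _ ≫ 𝟙 _
        rw [Category.id_comp, Category.comp_id]
        rfl)
    have h3 := comp_pt (chartId e) (c := Spec.map (CommRingCat.ofHom (algebraMap A A[T;T⁻¹])))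
      (Category.comp_id _) (hcL (hcR (r := 𝟙 (Spec (CommRingCat.of A)))))
      (AlgHom.id A A[T;T⁻¹]) t (Spec.map_id _).symm φ
    rw [AlgHom.id_comp] at h3
    rw [← h3, pt_chartId, Over.comp_left, Over.comp_left, specMap_left]
    exact Category.id_comp _
  rw [ofB, Over.comp_left, h2]
  have h4 : IsIso e.inv.left := (Over.forget _).map_isIso e.inv
  have h5 : IsIso (inv (tPt A (𝟙 (Spec (CommRingCat.of A))))).left := (Over.forget _).map_isIso _
  have h6 : IsClosedImmersion e.inv.left :=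
    MorphismProperty.of_isIso @IsClosedImmersion e.inv.left
  have h7 : IsClosedImmersion (inv (tPt A (𝟙 (Spec (CommRingCat.of A))))).left :=
    MorphismProperty.of_isIso @IsClosedImmersion (inv (tPt A (𝟙 (Spec (CommRingCat.of A))))).left
  exact MorphismProperty.comp_mem _ _ _ h7 (MorphismProperty.comp_mem _ _ _ h1 h6)

lemma lamAlg_sm (d : ℤ) (f : Red.Gm (Spec (CommRingCat.of A)) ⟶ G) :
    lamAlg (sm d f) (chartId e) =
      ((CochAlg.ψ A d : A[T;T⁻¹] →ₐc[A] A[T;T⁻¹]) : A[T;T⁻¹] →ₐ[A] A[T;T⁻¹]).comp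
        (lamAlg f (chartId e)) := by
  apply (pt_bijective (chartId e) (hcL (hcR (r := 𝟙 (Spec (CommRingCat.of A)))))).1
  rw [pt_lamAlg, pt_comp_lamAlg f (chartId e) (hcL (hcR (r := 𝟙 (Spec (CommRingCat.of A)))))
    ((CochAlg.ψ A d : A[T;T⁻¹] →ₐc[A] A[T;T⁻¹]) : A[T;T⁻¹] →ₐ[A] A[T;T⁻¹])
    ((tC A).comp (AddMonoidHom.toMultiplicative (mlt d))) (fun n => ?_)]
  · rw [sm, tPt, ← Category.assoc, DSPts.dsEquiv_DSmap]
    rfl
  · have h := CochAlg.ψ_C_mul_T (A := A) d n 1
    rw [map_one, _root_.one_mul, _root_.one_mul] at h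
    refine h.trans ?_
    change _ = LaurentPolynomial.T (mlt d n)
    rw [mlt, AddMonoidHom.smul_apply, AddMonoidHom.id_apply, smul_eq_mul, mul_comm]

lemma lamAlg_one : lamAlg (1 : Red.Gm (Spec (CommRingCat.of A)) ⟶ G) (chartId e) =
    (Algebra.ofId A A[T;T⁻¹]).comp (Bialgebra.counitAlgHom A H) := by
  apply (pt_bijective (chartId e) (hcL (hcR (r := 𝟙 (Spec (CommRingCat.of A)))))).1
  rw [pt_lamAlg, MonObj.comp_one]
  exact (pt_one (chartId e) (hcL (hcR (r := 𝟙 (Spec (CommRingCat.of A)))))).symm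

end OfB

/-- **Cocharacters over a connected affine base.** -/
theorem exists_sm [ConnectedSpace ↥(Spec (CommRingCat.of A))] [IsAffineHom G.hom] [Smooth G.hom]
    (f : Red.Gm (Spec (CommRingCat.of A)) ⟶ G) [IsMonHom f] :
    f = 1 ∨ ∃ (d : ℤ) (g : Red.Gm (Spec (CommRingCat.of A)) ⟶ G), d ≠ 0 ∧ IsMonHom g ∧
      IsClosedImmersion g.left ∧ f = sm d g := by
  have : IsAffine G.left := isAffine_of_isAffineHom G.hom
  obtain ⟨H, _, _, i, hi⟩ := AffHopf.exists_hopf G
  have h1 : Algebra.Smooth A H := AffHopf.smooth_of_iso i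
  have h2 : ConnectedSpace (PrimeSpectrum A) := ‹ConnectedSpace ↥(Spec (CommRingCat.of A))›
  have h3 : IsMonHom i.symm.hom := inferInstanceAs (IsMonHom i.inv)
  rcases CochAlg.exists_factor (lamB f (chartId i.symm)) with h | ⟨d, φ', hd, hs, h⟩
  · left
    apply hom_ext_lamAlg (chartId i.symm)
    rw [lamAlg_one]
    exact AlgHom.ext h
  · right
    refine ⟨d, ofB i.symm φ', hd, isMonHom_ofB i.symm φ', isClosedImmersion_ofB i.symm hs, ?_⟩
    apply hom_ext_lamAlg (chartId i.symm)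
    rw [lamAlg_sm, lamAlg_ofB]
    exact AlgHom.ext h

/-- `Z_G(dλ) = Z_G(λ)`. -/
theorem ptZ_sm_iff [IsAffineHom G.hom] {d : ℤ} (hd : d ≠ 0)
    (f : Red.Gm (Spec (CommRingCat.of A)) ⟶ G) [IsMonHom f]
    {X : Over (Spec (CommRingCat.of A))} (g : X ⟶ G) : PtZ (sm d f) g ↔ PtZ f g := by
  have h1 : lamN f (AddMonoidHom.id ℤ) = f := by
    rw [lamN, DSmap_id, Category.id_comp]
  have h2 : lamN f (mlt d) = sm d f := rfl
  have hm : ∀ m : ℤ, mlt d m = d * m := by
    intro m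
    rw [mlt, AddMonoidHom.smul_apply, AddMonoidHom.id_apply, smul_eq_mul]
  constructor
  · intro h
    have := Groth.Agent.RedSub.H664.Calc2.Kd.imp (J := f) (ν₁ := mlt d) (ν₂ := AddMonoidHom.id ℤ) Kd.Z Kd.Z
      (fun m hm' => ?_) (X := X) (g := g) h
    · rwa [h1] at this
    · change mlt d m = 0 at hm'
      rw [hm] at hm'
      exact (mul_eq_zero.1 hm').resolve_left hd
  · intro h
    have h' : PtZ (lamN f (AddMonoidHom.id ℤ)) g := by rwa [h1]
    exact Groth.Agent.RedSub.H664.Calc2.Kd.imp (J := f) (ν₁ := AddMonoidHom.id ℤ) (ν₂ := mlt d) Kd.Z Kd.Z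
      (fun m hm' => by
        change m = 0 at hm'
        change mlt d m = 0
        rw [hm, hm', mul_zero]) (X := X) (g := g) h'

end K545.CochImage
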