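import Groth.Prelude.Def_RedSub
import Groth.Prelude.Def_AGF
import Groth.Agent.Sga3B.AlgBc2
import Groth.Agent.Sga3B.Pts

/-!
# Conjugation bookkeeping

* `conjEq_of_iso`, `exists_iso_of_conjEq`: `RedSub.ConjEq` versus an isomorphism over the conjugate;
* `conjEq_trans`, `conjEq_symm`, `conjEq_refl`, `conjEq_of_mem`;
* `isUnipotentRadical_comp_iso`, `isLevi_comp_iso`: transport along an isomorphism of groups.
-/

set_option autoImplicit false

universe u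

open CategoryTheory MonoidalCategory CartesianMonoidalCategory MonObj GrpObj AlgebraicGeometry

namespace K545.ConjTools

variable {S : Scheme.{u}}

section Conj

variable {G A B C : Over S} [GrpObj G]

theorem comp_conjBy (g : 𝟙_ (Over S) ⟶ G) (i : A ⟶ G) {X : Over S} (x : X ⟶ A) :
    x ≫ AGF.conjBy g i = (toUnit X ≫ g) * (x ≫ i) * (toUnit X ≫ g)⁻¹ := by
  have h : x ≫ toUnit A ≫ g = toUnit X ≫ g := by
    rw [← Category.assoc]
    congr 1
    exact Subsingleton.elim _ _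
  simp only [MonObj.comp_mul, GrpObj.comp_inv, h]

theorem conjEq_of_iso {i : A ⟶ G} {i' : B ⟶ G} {g : 𝟙_ (Over S) ⟶ G} (e : A ≅ B)
    (he : e.hom ≫ i' = AGF.conjBy g i) : RedSub.ConjEq i i' g := by
  intro X x
  have hx : x = toUnit X := Subsingleton.elim _ _
  subst hx
  refine ⟨fun h => ⟨h ≫ e.hom, ?_⟩, fun h => ⟨h ≫ e.inv, ?_⟩⟩
  · rw [Category.assoc, he, comp_conjBy]
  · have h1 : i' = e.inv ≫ AGF.conjBy g i := by rw [Iso.eq_inv_comp, he]
    rw [h1, ← Category.assoc h, comp_conjBy]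
    group

theorem exists_iso_of_conjEq {i : A ⟶ G} {i' : B ⟶ G} [Mono i] [Mono i'] {g : 𝟙_ (Over S) ⟶ G}
    (h : RedSub.ConjEq i i' g) : ∃ e : A ≅ B, e.hom ≫ i' = AGF.conjBy g i := by
  obtain ⟨a, ha⟩ := (h A (toUnit A)).1 (𝟙 A)
  obtain ⟨b, hb⟩ := (h B (toUnit B)).2 (𝟙 B)
  rw [Category.id_comp] at ha hb
  have h1 : a ≫ b ≫ i = i := by
    rw [← hb]
    have : a ≫ ((toUnit B ≫ g)⁻¹ * i' * (toUnit B ≫ g)) =
        (toUnit A ≫ g)⁻¹ * (a ≫ i') * (toUnit A ≫ g) := by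
      have h : a ≫ toUnit B ≫ g = toUnit A ≫ g := by
        rw [← Category.assoc]
        congr 1
        exact Subsingleton.elim _ _
      simp only [MonObj.comp_mul, GrpObj.comp_inv, h]
    rw [this, ← ha]
    group
  have h2 : b ≫ a ≫ i' = i' := by
    rw [← ha, comp_conjBy, ← hb]
    group
  refine ⟨⟨a, b, ?_, ?_⟩, ha.symm⟩
  · rw [← cancel_mono i, Category.assoc, h1, Category.id_comp]
  · rw [← cancel_mono i', Category.assoc, h2, Category.id_comp]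

theorem conjEq_refl (i : A ⟶ G) : RedSub.ConjEq i i (1 : 𝟙_ (Over S) ⟶ G) := by
  intro X x
  refine ⟨fun h => ⟨h, ?_⟩, fun h => ⟨h, ?_⟩⟩ <;>
  · rw [MonObj.comp_one]
    group

theorem conjEq_symm {i : A ⟶ G} {i' : B ⟶ G} {X : Over S} {g : X ⟶ G}
    (h : RedSub.ConjEq i i' g) : RedSub.ConjEq i' i g⁻¹ := by
  intro X' x
  constructor
  · intro k
    obtain ⟨z, hz⟩ := (h X' x).2 k
    exact ⟨z, by rw [← hz, GrpObj.comp_inv, _root_.inv_inv]⟩
  · intro k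
    obtain ⟨z, hz⟩ := (h X' x).1 k
    exact ⟨z, by rw [← hz, GrpObj.comp_inv, _root_.inv_inv]⟩

theorem conjEq_trans {i : A ⟶ G} {i' : B ⟶ G} {i'' : C ⟶ G} {X : Over S} {g g' : X ⟶ G}
    (h : RedSub.ConjEq i i' g) (h' : RedSub.ConjEq i' i'' g') : RedSub.ConjEq i i'' (g' * g) := by
  intro X' x
  constructor
  · intro k
    obtain ⟨z, hz⟩ := (h X' x).1 k
    obtain ⟨z', hz'⟩ := (h' X' x).1 z
    refine ⟨z', ?_⟩
    rw [← hz', ← hz, MonObj.comp_mul]
    group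
  · intro k
    obtain ⟨z, hz⟩ := (h' X' x).2 k
    obtain ⟨z', hz'⟩ := (h X' x).2 z
    refine ⟨z', ?_⟩
    rw [← hz', ← hz, MonObj.comp_mul]
    group

theorem conjEq_comp {i : A ⟶ G} {i' : B ⟶ G} {X Y : Over S} {g : X ⟶ G}
    (h : RedSub.ConjEq i i' g) (y : Y ⟶ X) : RedSub.ConjEq i i' (y ≫ g) := by
  intro X' x
  have := h X' (x ≫ y)
  simpa only [Category.assoc] using this

/-- Points of a subgroup normalise it. -/
theorem conjEq_of_mem [GrpObj A] {i : A ⟶ G} [IsMonHom i] {X : Over S} (a : X ⟶ A) :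
    RedSub.ConjEq i i (a ≫ i) := by
  intro X' x
  refine ⟨fun h => ⟨(x ≫ a) * h * (x ≫ a)⁻¹, ?_⟩, fun h => ⟨(x ≫ a)⁻¹ * h * (x ≫ a), ?_⟩⟩ <;>
  simp only [MonObj.mul_comp, GrpObj.inv_comp, Category.assoc]

/-- `ConjEq` for a subobject of a subgroup, conjugated inside the subgroup. -/
theorem conjEq_comp_hom {P : Over S} [GrpObj P] {i : A ⟶ P} {i' : B ⟶ P} {X : Over S} {a : X ⟶ P}
    (h : RedSub.ConjEq i i' a) (p : P ⟶ G) [IsMonHom p] :
    RedSub.ConjEq (i ≫ p) (i' ≫ p) (a ≫ p) := by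
  intro X' x
  constructor
  · intro k
    obtain ⟨z, hz⟩ := (h X' x).1 k
    refine ⟨z, ?_⟩
    have := congrArg (· ≫ p) hz
    simpa only [MonObj.mul_comp, GrpObj.inv_comp, Category.assoc] using this
  · intro k
    obtain ⟨z, hz⟩ := (h X' x).2 k
    refine ⟨z, ?_⟩
    have := congrArg (· ≫ p) hz
    simpa only [MonObj.mul_comp, GrpObj.inv_comp, Category.assoc] using this

theorem mono_conjBy (g : 𝟙_ (Over S) ⟶ G) (i : A ⟶ G) [Mono i] : Mono (AGF.conjBy g i) := by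
  constructor
  intro X x y hxy
  rw [comp_conjBy, comp_conjBy] at hxy
  have : x ≫ i = y ≫ i := by simpa using hxy
  exact (cancel_mono i).1 this

/-- The inner automorphism of `G` defined by a section. -/
noncomputable def inn (g : 𝟙_ (Over S) ⟶ G) : G ≅ G where
  hom := AGF.conjBy g (𝟙 G)
  inv := AGF.conjBy g⁻¹ (𝟙 G)
  hom_inv_id := by
    rw [comp_conjBy, Category.comp_id, GrpObj.comp_inv, _root_.inv_inv]
    change (toUnit G ≫ g)⁻¹ * ((toUnit G ≫ g) * 𝟙 G * (toUnit G ≫ g)⁻¹) * (toUnit G ≫ g) = 𝟙 G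
    group
  inv_hom_id := by
    rw [comp_conjBy, Category.comp_id]
    change (toUnit G ≫ g) * ((toUnit G ≫ g⁻¹) * 𝟙 G * (toUnit G ≫ g⁻¹)⁻¹) * (toUnit G ≫ g)⁻¹ = 𝟙 G
    rw [GrpObj.comp_inv]
    group

theorem comp_inn (g : 𝟙_ (Over S) ⟶ G) {X : Over S} (x : X ⟶ G) :
    x ≫ (inn g).hom = (toUnit X ≫ g) * x * (toUnit X ≫ g)⁻¹ := by
  change x ≫ AGF.conjBy g (𝟙 G) = _
  rw [comp_conjBy, Category.comp_id]

theorem conjBy_eq (g : 𝟙_ (Over S) ⟶ G) (i : A ⟶ G) : AGF.conjBy g i = i ≫ (inn g).hom :=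
  (comp_inn g i).symm

instance isMonHom_inn (g : 𝟙_ (Over S) ⟶ G) : IsMonHom (inn g).hom := by
  apply Groth.Agent.Sga3B.Pts.isMonHom_of_points
  intro X x y
  rw [comp_inn, comp_inn, comp_inn]
  group

instance isMonHom_conjBy [GrpObj A] (g : 𝟙_ (Over S) ⟶ G) (i : A ⟶ G) [IsMonHom i] :
    IsMonHom (AGF.conjBy g i) := by
  rw [conjBy_eq]
  infer_instance

end Conj

section Transport

variable {G P P₁ U L : Over S} [GrpObj G] [GrpObj P] [GrpObj P₁] [GrpObj U] [GrpObj L]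

open Groth.Agent.Sga3B Groth.Agent.Sga3B.RedIso

theorem isParabolic_conjBy {p : P ⟶ G} (hp : Red.IsParabolic p) (g : 𝟙_ (Over S) ⟶ G) :
    Red.IsParabolic (AGF.conjBy g p) := by
  refine AlgBc.isParabolic_of_arrow (Iso.refl _) (Grp.mkIso' (inn g)) ?_ hp
  rw [conjBy_eq]
  change p ≫ (inn g).hom = 𝟙 P ≫ p ≫ (inn g).hom
  rw [Category.id_comp]

theorem isUnipotentRadical_comp_iso {u : U ⟶ P} (h : Par.IsUnipotentRadical u) (e : P ≅ P₁)
    [IsMonHom e.hom] : Par.IsUnipotentRadical (u ≫ e.hom) := by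
  obtain ⟨h1, h2, h3, h4, h5, h6, h7⟩ := h
  refine ⟨inferInstance, ?_, ?_, h4, h5, h6, ?_⟩
  · rw [Over.comp_left]
    infer_instance
  · intro T g n
    obtain ⟨n', hn'⟩ := h3 T (g ≫ e.inv) n
    refine ⟨n', ?_⟩
    have := congrArg (· ≫ e.hom) hn'
    simpa only [MonObj.mul_comp, GrpObj.inv_comp, Category.assoc, Iso.inv_hom_id,
      Category.comp_id] using this
  · intro U' _ u' _ k1 k2 k3 k4 k5
    have : IsMonHom (u' ≫ e.inv) := inferInstance
    obtain ⟨f, hf⟩ := h7 U' (u' ≫ e.inv) (by rw [Over.comp_left]; infer_instance) (by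
      intro T g n
      obtain ⟨n', hn'⟩ := k2 T (g ≫ e.hom) n
      refine ⟨n', ?_⟩
      have := congrArg (· ≫ e.inv) hn'
      simpa only [MonObj.mul_comp, GrpObj.inv_comp, Category.assoc, Iso.hom_inv_id,
        Category.comp_id] using this) k3 k4 k5
    refine ⟨f, ?_⟩
    rw [← Category.assoc, hf, Category.assoc, Iso.inv_hom_id, Category.comp_id]

theorem isLevi_comp_iso {l : L ⟶ P} (h : Par.IsLevi l) (e : P ≅ P₁) [IsMonHom e.hom] :
    Par.IsLevi (l ≫ e.hom) := by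
  obtain ⟨h1, h2, h3, U, _, u, hu, hiso⟩ := h
  refine ⟨inferInstance, inferInstance, h3, U, inferInstance, u ≫ e.hom,
    isUnipotentRadical_comp_iso hu e, ?_⟩
  have h4 : ((l ≫ e.hom) ⊗ₘ (u ≫ e.hom)) ≫ μ[P₁] = ((l ⊗ₘ u) ≫ μ[P]) ≫ e.hom := by
    rw [Category.assoc, IsMonHom.mul_hom, tensorHom_comp_tensorHom_assoc]
  rw [h4]
  infer_instance

end Transport

end K545.ConjTools
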