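import Groth.Agent.Books.AffBridge2
import Mathlib

/-!
# The image of a cocharacter over a connected ring

`H` a Hopf algebra of finite type over a ring `A` with connected spectrum and
`φ : H → A[T;T⁻¹]` a homomorphism of bialgebras.  Then there is `d : ℤ` such that the image of `φ`
consists of the Laurent polynomials in `T ^ d`.
-/

set_option autoImplicit false

universe u

open LaurentPolynomial TensorProduct
open scoped LaurentPolynomial

namespace K545.CochAlg

section Coeff

variable {A : Type u} [CommRing A]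

/-- The coefficient of `T n`. -/
noncomputable def cf (n : ℤ) : A[T;T⁻¹] →ₗ[A] A :=
  Finsupp.lapply n ∘ₗ (AddMonoidAlgebra.coeffLinearEquiv A).toLinearMap

lemma cf_apply (n : ℤ) (p : A[T;T⁻¹]) : cf n p = p.coeff n := rfl

lemma cf_C_mul_T (n m : ℤ) (a : A) : cf n (C a * T m : A[T;T⁻¹]) = if m = n then a else 0 := by
  rw [cf_apply, ← single_eq_C_mul_T, AddMonoidAlgebra.coeff_single, Finsupp.single_apply]

lemma cf_T (n m : ℤ) : cf n (T m : A[T;T⁻¹]) = if m = n then 1 else 0 := by
  have := cf_C_mul_T (A := A) n m 1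
  rwa [map_one, one_mul] at this

lemma smul_T (n : ℤ) (a : A) : (C a * T n : A[T;T⁻¹]) = a • T n := by
  rw [← single_eq_C_mul_T, T, AddMonoidAlgebra.smul_single, smul_eq_mul, mul_one]

/-- `(id ⊗ coefficient)` after the comultiplication is the projection. -/
lemma rid_comul (n : ℤ) (p : A[T;T⁻¹]) :
    TensorProduct.rid A _ ((cf n).lTensor _ (Coalgebra.comul (R := A) p)) = C (cf n p) * T n := by
  induction p using LaurentPolynomial.induction_on' with
  | add p q hp hq => rw [map_add, map_add, map_add, hp, hq, map_add, map_add, add_mul]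
  | C_mul_T m a =>
    rw [cf_C_mul_T, smul_T, map_smul, LaurentPolynomial.comul_T, map_smul, map_smul,
      LinearMap.lTensor_tmul, TensorProduct.rid_tmul, cf_T]
    by_cases h : m = n
    · subst h
      rw [if_pos rfl, if_pos rfl, one_smul, smul_T]
    · rw [if_neg h, if_neg h, zero_smul, smul_zero, map_zero, zero_mul]

/-- Coefficients and comultiplication. -/
lemma lid_comul (n : ℤ) (p : A[T;T⁻¹]) :
    TensorProduct.lid A _ (TensorProduct.map (cf n) (cf n) (Coalgebra.comul (R := A) p)) =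
      cf n p := by
  induction p using LaurentPolynomial.induction_on' with
  | add p q hp hq => rw [map_add, map_add, map_add, hp, hq, map_add]
  | C_mul_T m a =>
    rw [smul_T, map_smul, LaurentPolynomial.comul_T, map_smul, map_smul, map_smul,
      TensorProduct.map_tmul, TensorProduct.lid_tmul, cf_T]
    by_cases h : m = n
    · subst h
      rw [if_pos rfl, one_smul]
    · rw [if_neg h, zero_smul]

variable (A) in
/-- The `d`-th power map on Laurent polynomials. -/
noncomputable def ψ (d : ℤ) : A[T;T⁻¹] →ₐc[A] A[T;T⁻¹] :=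
  AddMonoidAlgebra.mapDomainBialgHom A (zmultiplesHom ℤ d)

lemma ψ_C_mul_T (d n : ℤ) (a : A) : ψ A d (C a * T n) = C a * T (n * d) := by
  rw [← single_eq_C_mul_T, ← single_eq_C_mul_T]
  refine (AddMonoidAlgebra.mapDomainBialgHom_single (zmultiplesHom ℤ d) n a).trans ?_
  rw [zmultiplesHom_apply, smul_eq_mul]

lemma ψ_injective {d : ℤ} (hd : d ≠ 0) : Function.Injective (ψ A d) := by
  intro p q h
  apply AddMonoidAlgebra.coeff_injective
  have h1 : Function.Injective (zmultiplesHom ℤ d) := by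
    intro a b hab
    rw [zmultiplesHom_apply, zmultiplesHom_apply, smul_eq_mul, smul_eq_mul] at hab
    exact mul_right_cancel₀ hd hab
  exact Finsupp.mapDomain_injective h1 (congrArg AddMonoidAlgebra.coeff h)

lemma exists_ψ {d : ℤ} {p : A[T;T⁻¹]} (h : ∀ n, cf n p ≠ 0 → d ∣ n) : ∃ q, ψ A d q = p := by
  have h1 : p = ∑ m ∈ p.coeff.support, C (cf m p) * T m := by
    conv_lhs => rw [← AddMonoidAlgebra.sum_coeff_single p]
    refine Finset.sum_congr rfl fun m _ => ?_
    rw [single_eq_C_mul_T]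
    rfl
  have h2 : ∀ m ∈ p.coeff.support, ∃ q, ψ A d q = C (cf m p) * T m := by
    intro m hm
    obtain ⟨k, hk⟩ := h m (Finsupp.mem_support_iff.1 hm)
    refine ⟨C (cf m p) * T k, ?_⟩
    rw [ψ_C_mul_T, mul_comm k d, ← hk]
  choose! x hx using h2
  refine ⟨∑ m ∈ p.coeff.support, x m, ?_⟩
  conv_rhs => rw [h1]
  rw [map_sum]
  exact Finset.sum_congr rfl hx

lemma cf_ψ {d : ℤ} (q : A[T;T⁻¹]) (n : ℤ) (h : cf n (ψ A d q) ≠ 0) : d ∣ n := by
  by_contra hn
  apply h
  clear h
  induction q using LaurentPolynomial.induction_on' with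
  | add p q hp hq => rw [map_add, map_add, hp, hq, add_zero]
  | C_mul_T m a =>
    rw [ψ_C_mul_T, cf_C_mul_T, if_neg]
    rintro rfl
    exact hn (Dvd.intro_left m rfl)

end Coeff

variable {A H : Type u} [CommRing A] [CommRing H] [HopfAlgebra A H] (φ : H →ₐc[A] A[T;T⁻¹])

/-- The functional `coefficient of T n` on `H`. -/
noncomputable def co (n : ℤ) : H →ₗ[A] A := cf n ∘ₗ (φ : H →ₗ[A] A[T;T⁻¹])

lemma co_apply (n : ℤ) (h : H) : co φ n h = cf n (φ h) := rfl

lemma exists_pr (n : ℤ) (h : H) : ∃ x, φ x = C (co φ n h) * T n := by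
  refine ⟨TensorProduct.rid A _ ((co φ n).lTensor _ (Coalgebra.comul (R := A) h)), ?_⟩
  rw [co_apply, ← rid_comul, ← CoalgHomClass.map_comp_comul_apply]
  generalize Coalgebra.comul (R := A) h = t
  induction t with
  | zero => simp
  | add x y hx hy => rw [map_add, map_add, map_add, hx, hy, map_add, map_add, map_add]
  | tmul x y =>
    rw [LinearMap.lTensor_tmul, TensorProduct.rid_tmul, map_smul, TensorProduct.map_tmul,
      LinearMap.lTensor_tmul, TensorProduct.rid_tmul]
    rfl

/-- The ideal of coefficients of `T n`. -/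
noncomputable def I (n : ℤ) : Ideal A := LinearMap.range (co φ n)

lemma mem_I_iff (n : ℤ) (a : A) : a ∈ I φ n ↔ ∃ x, φ x = C a * T n := by
  constructor
  · rintro ⟨h, rfl⟩
    exact exists_pr φ n h
  · rintro ⟨x, hx⟩
    refine ⟨x, ?_⟩
    rw [co_apply, hx, cf_C_mul_T, if_pos rfl]

lemma co_mem (n : ℤ) (h : H) : co φ n h ∈ I φ n := ⟨h, rfl⟩

lemma isIdem (n : ℤ) : IsIdempotentElem (I φ n) := by
  refine le_antisymm Ideal.mul_le_right ?_
  rintro _ ⟨h, rfl⟩
  rw [co_apply, ← lid_comul, ← CoalgHomClass.map_comp_comul_apply]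
  generalize Coalgebra.comul (R := A) h = t
  induction t with
  | zero => simp
  | add x y hx hy =>
    rw [map_add, map_add, map_add]
    exact add_mem hx hy
  | tmul x y =>
    rw [TensorProduct.map_tmul, TensorProduct.map_tmul, TensorProduct.lid_tmul, smul_eq_mul]
    exact Ideal.mul_mem_mul (co_mem φ n x) (co_mem φ n y)

lemma mul_mem_I {n m : ℤ} {a b : A} (ha : a ∈ I φ n) (hb : b ∈ I φ m) : a * b ∈ I φ (n + m) := by
  rw [mem_I_iff] at *
  obtain ⟨x, hx⟩ := ha
  obtain ⟨y, hy⟩ := hb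
  exact ⟨x * y, by rw [map_mul, hx, hy, map_mul, T_add]; ring⟩

lemma one_mem_I : (1 : A) ∈ I φ 0 := by
  rw [mem_I_iff]
  exact ⟨1, by rw [map_one, map_one, T_zero, one_mul]⟩

lemma neg_mem_I {n : ℤ} {a : A} (ha : a ∈ I φ n) : a ∈ I φ (-n) := by
  rw [mem_I_iff] at *
  obtain ⟨x, hx⟩ := ha
  refine ⟨HopfAlgebra.antipode A x, ?_⟩
  rw [← Groth.Agent.Books.AffBridge2.antipode_bialgHom_apply, hx, smul_T, map_smul,
    LaurentPolynomial.antipode_T, smul_T]

section FG

variable [Algebra.FiniteType A H]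

lemma fg_I (n : ℤ) : (I φ n).FG := by
  obtain ⟨s, hs⟩ := (inferInstance : Algebra.FiniteType A H).1
  let ι : Type u := Σ x : s, (φ (x : H)).coeff.support
  let θ : MvPolynomial ι ℤ →+* A := MvPolynomial.eval₂Hom (Int.castRingHom A)
    (fun i => co φ (i.2 : ℤ) (i.1 : H))
  let wt : (ι →₀ ℕ) →+ ℤ :=
    { toFun := fun w => w.sum fun i k => (k : ℤ) * (i.2 : ℤ)
      map_zero' := by simp
      map_add' := fun w w' => by
        rw [Finsupp.sum_add_index']
        · simp
        · intros
          push_cast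
          ring }
  have hwt : ∀ i : ι, wt (Finsupp.single i 1) = (i.2 : ℤ) := by
    intro i
    change ((Finsupp.single i 1 : ι →₀ ℕ).sum fun i k => (k : ℤ) * (i.2 : ℤ)) = _
    rw [Finsupp.sum_single_index] <;> simp
  let W : ℤ → Set (MvPolynomial ι ℤ) := fun n => {q | ∃ w, wt w = n ∧ q = MvPolynomial.monomial w 1}
  let J : ℤ → Ideal A := fun n => (Ideal.span (W n)).map θ
  have hJfg : ∀ n, (J n).FG := fun n =>
    Ideal.FG.map (IsNoetherian.noetherian (Ideal.span (W n))) θ
  have hJspan : ∀ n, J n = Ideal.span (θ '' W n) := fun n => Ideal.map_span θ (W n)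
  have hJmul : ∀ n m, J n * J m ≤ J (n + m) := by
    intro n m
    rw [hJspan, hJspan, hJspan, Ideal.span_mul_span']
    refine Ideal.span_mono ?_
    rintro _ ⟨_, ⟨_, ⟨w, rfl, rfl⟩, rfl⟩, _, ⟨_, ⟨w', rfl, rfl⟩, rfl⟩, rfl⟩
    refine ⟨MvPolynomial.monomial (w + w') 1, ⟨w + w', map_add _ _ _, rfl⟩, ?_⟩
    change _ = _ * _
    rw [← map_mul, MvPolynomial.monomial_mul, one_mul]
  have hone : (1 : A) ∈ J 0 := by
    rw [hJspan]
    exact Ideal.subset_span ⟨1, ⟨0, map_zero _, rfl⟩, map_one _⟩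
  have hJI : ∀ n, J n ≤ I φ n := by
    intro n
    rw [hJspan, Ideal.span_le]
    rintro _ ⟨_, ⟨w, rfl, rfl⟩, rfl⟩
    have : ∀ w : ι →₀ ℕ, θ (MvPolynomial.monomial w 1) ∈ I φ (wt w) := by
      intro w
      induction w using Finsupp.induction_linear with
      | zero =>
        rw [map_zero]
        have : (MvPolynomial.monomial (0 : ι →₀ ℕ)) (1 : ℤ) = 1 := rfl
        rw [this, map_one]
        exact one_mem_I φ
      | add w w' hw hw' =>
        rw [map_add]
        have : (MvPolynomial.monomial (w + w')) (1 : ℤ) =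
            (MvPolynomial.monomial w) (1 : ℤ) * (MvPolynomial.monomial w') (1 : ℤ) := by
          rw [MvPolynomial.monomial_mul, one_mul]
        rw [this, map_mul]
        exact mul_mem_I φ hw hw'
      | single i k =>
        induction k with
        | zero =>
          rw [Finsupp.single_zero, map_zero]
          have : (MvPolynomial.monomial (0 : ι →₀ ℕ)) (1 : ℤ) = 1 := rfl
          rw [this, map_one]
          exact one_mem_I φ
        | succ k ih =>
          rw [Finsupp.single_add, map_add]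
          have : (MvPolynomial.monomial (Finsupp.single i k + Finsupp.single i 1)) (1 : ℤ) =
              (MvPolynomial.monomial (Finsupp.single i k)) (1 : ℤ) * MvPolynomial.X i := by
            rw [MvPolynomial.X, MvPolynomial.monomial_mul, one_mul]
          rw [this, map_mul]
          refine mul_mem_I φ ih ?_
          have h1 : θ (MvPolynomial.X i) = co φ (i.2 : ℤ) (i.1 : H) := by
            simp [θ]
          rw [h1, hwt]
          exact co_mem φ _ _
    exact this w
  let W' : Set (A[T;T⁻¹]) := {p | ∃ (m : ℤ) (a : A), a ∈ J m ∧ p = C a * T m}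
  let M : Submodule A (A[T;T⁻¹]) := Submodule.span A W'
  have hMmul : ∀ {p q}, p ∈ M → q ∈ M → p * q ∈ M := by
    intro p q hp hq
    have h1 : M * M ≤ M := by
      rw [Submodule.span_mul_span]
      refine Submodule.span_mono ?_
      rintro _ ⟨_, ⟨m, a, ha, rfl⟩, _, ⟨m', a', ha', rfl⟩, rfl⟩
      refine ⟨m + m', a * a', hJmul m m' (Ideal.mul_mem_mul ha ha'), ?_⟩
      change (C a * T m) * (C a' * T m') = _
      rw [map_mul, T_add]
      ring
    exact h1 (Submodule.mul_mem_mul hp hq)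
  have hMone : (1 : A[T;T⁻¹]) ∈ M :=
    Submodule.subset_span ⟨0, 1, hone, by rw [map_one, T_zero, one_mul]⟩
  have hMcf : ∀ p ∈ M, ∀ n, cf n p ∈ J n := by
    intro p hp n
    induction hp using Submodule.span_induction with
    | mem x hx =>
      obtain ⟨m, a, ha, rfl⟩ := hx
      rw [cf_C_mul_T]
      by_cases hmn : m = n
      · subst hmn
        rwa [if_pos rfl]
      · rw [if_neg hmn]
        exact zero_mem _
    | zero =>
      rw [map_zero]
      exact zero_mem _
    | add x y _ _ hx hy =>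
      rw [map_add]
      exact add_mem hx hy
    | smul a x _ hx =>
      rw [map_smul]
      exact Submodule.smul_mem _ _ hx
  have hM : ∀ h : H, φ h ∈ M := by
    intro h
    have h1 : h ∈ Algebra.adjoin A (s : Set H) := by rw [hs]; trivial
    induction h1 using Algebra.adjoin_induction with
    | mem x hx =>
      have h2 : φ x = ∑ m ∈ (φ x).coeff.support, C (co φ m x) * T m := by
        conv_lhs => rw [← AddMonoidAlgebra.sum_coeff_single (φ x)]
        refine Finset.sum_congr rfl fun m _ => ?_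
        rw [single_eq_C_mul_T]
        rfl
      rw [h2]
      refine Submodule.sum_mem _ fun m hm => Submodule.subset_span ⟨m, _, ?_, rfl⟩
      rw [hJspan]
      refine Ideal.subset_span ⟨MvPolynomial.X ⟨⟨x, hx⟩, ⟨m, hm⟩⟩,
        ⟨Finsupp.single ⟨⟨x, hx⟩, ⟨m, hm⟩⟩ 1, hwt _, rfl⟩, ?_⟩
      simp [θ]
    | algebraMap a =>
      have h2 : φ (algebraMap A H a) = a • 1 := by
        rw [AlgHomClass.commutes, Algebra.algebraMap_eq_smul_one]
      rw [h2]
      exact Submodule.smul_mem _ _ hMone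
    | add x y _ _ hx hy =>
      rw [map_add]
      exact add_mem hx hy
    | mul x y _ _ hx hy =>
      rw [map_mul]
      exact hMmul hx hy
  have : I φ n = J n := by
    refine le_antisymm ?_ (hJI n)
    rintro _ ⟨h, rfl⟩
    exact hMcf _ (hM h) n
  rw [this]
  exact hJfg n

variable [ConnectedSpace (PrimeSpectrum A)]

lemma I_eq (n : ℤ) : I φ n = ⊥ ∨ I φ n = ⊤ := by
  obtain ⟨e, he, h⟩ := (Ideal.isIdempotentElem_iff_of_fg _ (fg_I φ n)).1 (isIdem φ n)
  have h2 : e = 0 ∨ e = 1 := by
    have h1 := isClopen_iff.mp (PrimeSpectrum.isClopen_iff.mpr ⟨e, he, rfl⟩)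
    rcases h1 with h1 | h1
    · left
      apply PrimeSpectrum.basicOpen_injOn_isIdempotentElem he IsIdempotentElem.zero
      ext1
      rw [h1, PrimeSpectrum.basicOpen_zero]; rfl
    · right
      apply PrimeSpectrum.basicOpen_injOn_isIdempotentElem he IsIdempotentElem.one
      ext1
      rw [h1, PrimeSpectrum.basicOpen_one]; rfl
  rcases h2 with rfl | rfl
  · left
    rw [h, Submodule.span_singleton_eq_bot]
  · right
    rw [h, Ideal.submodule_span_eq, Ideal.span_singleton_one]

/-- The weights occurring in the image of `φ`. -/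
def D : AddSubgroup ℤ where
  carrier := {n | I φ n = ⊤}
  add_mem' := fun {a b} ha hb => by
    change I φ _ = ⊤ at ha hb ⊢
    rw [Ideal.eq_top_iff_one] at *
    have := mul_mem_I φ ha hb
    rwa [mul_one] at this
  zero_mem' := (Ideal.eq_top_iff_one _).2 (one_mem_I φ)
  neg_mem' := fun {a} ha => by
    change I φ _ = ⊤ at ha ⊢
    rw [Ideal.eq_top_iff_one] at *
    exact neg_mem_I φ ha

lemma co_eq_zero {n : ℤ} (hn : n ∉ D φ) (h : H) : co φ n h = 0 := by
  rcases I_eq φ n with h1 | h1
  · have := co_mem φ n h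
    rwa [h1] at this
  · exact absurd h1 hn

/-- **The image of a cocharacter.** -/
theorem exists_range : ∃ d : ℤ, ∀ p : A[T;T⁻¹], (∃ h, φ h = p) ↔ ∀ n, cf n p ≠ 0 → d ∣ n := by
  obtain ⟨d, hd⟩ := Int.subgroup_cyclic (D φ)
  have hd' : ∀ n, n ∈ D φ ↔ d ∣ n := by
    intro n
    rw [hd, AddSubgroup.mem_closure_singleton, Dvd.dvd]
    constructor
    · rintro ⟨k, rfl⟩
      exact ⟨k, by rw [smul_eq_mul, mul_comm]⟩
    · rintro ⟨k, rfl⟩
      exact ⟨k, by rw [smul_eq_mul, mul_comm]⟩
  refine ⟨d, fun p => ⟨?_, fun hp => ?_⟩⟩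
  · rintro ⟨h, rfl⟩ n hn
    rw [← hd']
    by_contra h1
    exact hn (co_eq_zero φ h1 h)
  · have h1 : p = ∑ m ∈ p.coeff.support, C (cf m p) * T m := by
      conv_lhs => rw [← AddMonoidAlgebra.sum_coeff_single p]
      refine Finset.sum_congr rfl fun m _ => ?_
      rw [single_eq_C_mul_T]
      rfl
    rw [h1]
    have h2 : ∀ m ∈ p.coeff.support, ∃ h, φ h = C (cf m p) * T m := by
      intro m hm
      rw [← mem_I_iff]
      have h3 : I φ m = ⊤ := (hd' m).2 (hp m (Finsupp.mem_support_iff.1 hm))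
      rw [h3]
      trivial
    choose! x hx using h2
    refine ⟨∑ m ∈ p.coeff.support, x m, ?_⟩
    rw [map_sum]
    exact Finset.sum_congr rfl hx

/-- **A cocharacter over a connected ring is trivial, or a power of a closed immersion.** -/
theorem exists_factor : (∀ h, φ h = algebraMap A _ (Coalgebra.counit (R := A) h)) ∨
    ∃ (d : ℤ) (φ' : H →ₐc[A] A[T;T⁻¹]), d ≠ 0 ∧ Function.Surjective φ' ∧
      ∀ h, φ h = ψ A d (φ' h) := by
  obtain ⟨d, hd⟩ := exists_range φ
  by_cases hd0 : d = 0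
  · left
    subst hd0
    intro h
    have h1 : ∀ n, n ≠ 0 → cf n (φ h) = 0 := by
      intro n hn
      by_contra h1
      exact hn (zero_dvd_iff.1 ((hd (φ h)).1 ⟨h, rfl⟩ n h1))
    have h2 : φ h = C (cf 0 (φ h)) := by
      apply AddMonoidAlgebra.coeff_injective
      ext n
      have h3 := cf_C_mul_T (A := A) n 0 (cf 0 (φ h))
      rw [T_zero, mul_one] at h3
      change cf n (φ h) = cf n (C (cf 0 (φ h)))
      rw [h3]
      by_cases hn : 0 = n
      · subst hn
        rw [if_pos rfl]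
      · rw [if_neg hn, h1 n (Ne.symm hn)]
    have h3 : Coalgebra.counit (R := A) h = cf 0 (φ h) := by
      rw [← CoalgHomClass.counit_comp_apply φ h]
      conv_lhs => rw [h2]
      have h4 : (C (cf 0 (φ h)) : A[T;T⁻¹]) = (cf 0 (φ h)) • T 0 := by
        rw [← smul_T, T_zero, mul_one]
      rw [h4, map_smul, LaurentPolynomial.counit_T, smul_eq_mul, mul_one]
    rw [h3]
    exact h2
  · right
    have hinj := ψ_injective (A := A) hd0
    let e : A[T;T⁻¹] ≃ₐ[A] (ψ A d : A[T;T⁻¹] →ₐ[A] A[T;T⁻¹]).range := AlgEquiv.ofInjective _ hinj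
    have he : ∀ q, ((e q : _) : A[T;T⁻¹]) = ψ A d q := fun q => rfl
    let g : H →ₐ[A] (ψ A d : A[T;T⁻¹] →ₐ[A] A[T;T⁻¹]).range :=
      (φ : H →ₐ[A] A[T;T⁻¹]).codRestrict _ fun h =>
        exists_ψ ((hd (φ h)).1 ⟨h, rfl⟩)
    let f : H →ₐ[A] A[T;T⁻¹] := (e.symm : _ →ₐ[A] _).comp g
    have hf : ∀ h, ψ A d (f h) = φ h := by
      intro h
      rw [← he]
      change ((e (e.symm (g h)) : _) : A[T;T⁻¹]) = _
      rw [AlgEquiv.apply_symm_apply]
      rfl
    have hψψ : Function.Injective (TensorProduct.map (ψ A d : A[T;T⁻¹] →ₗ[A] A[T;T⁻¹])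
        (ψ A d : A[T;T⁻¹] →ₗ[A] A[T;T⁻¹])) := by
      rw [← LinearMap.lTensor_comp_rTensor]
      exact (Module.Flat.lTensor_preserves_injective_linearMap _ hinj).comp
        (Module.Flat.rTensor_preserves_injective_linearMap _ hinj)
    let f' : H →ₐc[A] A[T;T⁻¹] := BialgHom.ofAlgHom f
      (by
        refine AlgHom.ext fun h => ?_
        change Coalgebra.counit (R := A) (f h) = Coalgebra.counit (R := A) h
        rw [← CoalgHomClass.counit_comp_apply (ψ A d) (f h), hf,
          CoalgHomClass.counit_comp_apply])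
      (by
        refine AlgHom.ext fun h => ?_
        apply hψψ
        change TensorProduct.map (ψ A d : A[T;T⁻¹] →ₗ[A] A[T;T⁻¹])
          (ψ A d : A[T;T⁻¹] →ₗ[A] A[T;T⁻¹]) (TensorProduct.map f.toLinearMap f.toLinearMap
            (Coalgebra.comul (R := A) h)) = TensorProduct.map (ψ A d : A[T;T⁻¹] →ₗ[A] A[T;T⁻¹])
          (ψ A d : A[T;T⁻¹] →ₗ[A] A[T;T⁻¹]) (Coalgebra.comul (R := A) (f h))
        rw [← LinearMap.comp_apply, ← TensorProduct.map_comp]
        have h1 : (ψ A d : A[T;T⁻¹] →ₗ[A] A[T;T⁻¹]) ∘ₗ f.toLinearMap =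
            (φ : H →ₗ[A] A[T;T⁻¹]) := LinearMap.ext hf
        rw [h1]
        have h2 := CoalgHomClass.map_comp_comul_apply (ψ A d) (f h)
        have h3 := CoalgHomClass.map_comp_comul_apply φ h
        refine h3.trans (Eq.trans ?_ h2.symm)
        rw [hf])
    refine ⟨d, f', hd0, fun q => ?_, fun h => (hf h).symm⟩
    obtain ⟨h, hh⟩ := (hd (ψ A d q)).2 fun n hn => cf_ψ q n hn
    exact ⟨h, hinj ((hf h).trans hh)⟩

end FG

end K545.CochAlg
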