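import Groth.Prelude.Def_AGF
import Groth.Agent.RedSub.H661.Main
import Groth.Agent.RedSub.H657.TrBorel

/-!
# Points conjugating a parabolic subgroup into a parabolic subgroup which contains it

`G` reductive over an arbitrary base `S`, `Q` parabolic.
* `inP_of_tr_parabolic`: a point `g` of `G` with `g I g⁻¹ ⊆ Q`, where `I ⊆ Q` is parabolic in `G`,
  lies in `Q`;
* `eq_of_common_parabolic`: two parabolic subgroups which contain a common parabolic subgroup and
  are conjugate locally for the étale topology are equal.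
-/

set_option autoImplicit false

universe u

open CategoryTheory MonoidalCategory CartesianMonoidalCategory MonObj GrpObj AlgebraicGeometry Limits

namespace K545.Common

open Groth.Agent.Sga3A.NormDefs Groth.Agent.Sga3A.NormRing Groth.Agent.RedSub.H657
open Groth.Agent.RedSub.H657.TrDefs Groth.Agent.Sga3B.Parab Groth.Agent.Sga3B.BcPts

variable {S : Scheme.{u}} {G P P' Q I : Over S} [GrpObj G] [GrpObj P] [GrpObj P'] [GrpObj Q]
  [GrpObj I]

omit [GrpObj Q] in
/-- Base change of `Tr`. -/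
theorem tr_map {S' : Scheme.{u}} (f : S' ⟶ S) {B : Over S'} {A X : Over S} {a : A ⟶ G}
    {q : Q ⟶ G} {g : X ⟶ G} (h : Tr a q g) (c : B ⟶ Red.bc f A) :
    Tr (c ≫ (Over.pullback f).map a) ((Over.pullback f).map q) ((Over.pullback f).map g) := by
  intro Y y k
  obtain ⟨y', rfl⟩ := (bcEquiv f Y X).surjective y
  obtain ⟨k', hk'⟩ := (bcEquiv f Y A).surjective (k ≫ c)
  have h1 := (inP_bc_iff (i := q) f _).2 (h _ y' k')
  convert h1 using 1
  have h3 : (bcEquiv f Y G (y' ≫ g))⁻¹ = bcEquiv f Y G (y' ≫ g)⁻¹ :=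
    ((bcMulEquiv f Y G).map_inv _).symm
  rw [← Category.assoc k, ← hk', ← bcEquiv_comp, ← bcEquiv_comp, h3, ← bcEquiv_mul, ← bcEquiv_mul]

/-- A point `g` of `G` with `g I g⁻¹ ⊆ Q`, where `I ⊆ Q` is parabolic in `G`, lies in `Q`. -/
theorem inP_of_tr_parabolic (hG : Red.IsReductive G) (q : Q ⟶ G) (hQ : Red.IsParabolic q)
    (i : I ⟶ G) (hI : Red.IsParabolic i) (c : I ⟶ Q) (hc : c ≫ q = i) {X : Over S} (g : X ⟶ G)
    (hg : Tr i q g) : InP q g := by
  have : IsClosedImmersion q.left := hQ.2.1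
  refine FacLoc.inP_of_local q g fun s => ?_
  obtain ⟨S', f, hf, hs, B, _, b, hb⟩ := Groth.Agent.RedSub.H661.Main.exists_borel_in hG hI s
  refine ⟨S', f, inferInstance, inferInstance, hs, ?_⟩
  have : LocallyQuasiFinite f := Groth.Agent.Desc.LQF.of_etale f
  exact TrBorel.inP_of_tr (RedCover147.isReductive_bc f hG) ((Over.pullback f).map q)
    (RedCover147.isParabolic_bc f hQ) (b ≫ (Over.pullback f).map i) hb
    (b ≫ (Over.pullback f).map c) (by rw [Category.assoc, ← Functor.map_comp, hc])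
    ((Over.pullback f).map g) (tr_map f hg b)

/-- If `g` conjugates `P` onto `P'`, both parabolic and containing the parabolic subgroup `I`,
then `g ∈ P`. -/
theorem inP_of_conjEq (hG : Red.IsReductive G) (p : P ⟶ G) (hP : Red.IsParabolic p) (p' : P' ⟶ G)
    (i : I ⟶ G) (hI : Red.IsParabolic i)
    (hi : ∃ c : I ⟶ P, c ≫ p = i) (hi' : ∃ c' : I ⟶ P', c' ≫ p' = i) {X : Over S} (g : X ⟶ G)
    (h : RedSub.ConjEq p p' g) : InP p g := by
  obtain ⟨c, hc⟩ := hi
  obtain ⟨c', hc'⟩ := hi'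
  have hp := hP.1
  have h1 : InP p g⁻¹ := by
    refine inP_of_tr_parabolic hG p hP i hI c hc g⁻¹ fun X' x k => ?_
    obtain ⟨z, hz⟩ := (h X' x).2 (k ≫ c')
    refine ⟨z, ?_⟩
    rw [← hz, Category.assoc, hc', GrpObj.comp_inv, _root_.inv_inv]
  have := h1.inv
  rwa [_root_.inv_inv] at this

/-- Two parabolic subgroups containing a common parabolic subgroup and conjugate locally for the
fppf topology: inclusion. -/
theorem inP_of_locally_conj (hG : Red.IsReductive G) (p : P ⟶ G) (hP : Red.IsParabolic p)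
    (p' : P' ⟶ G) (hP' : Red.IsParabolic p') (i : I ⟶ G) (hI : Red.IsParabolic i)
    (hi : ∃ c : I ⟶ P, c ≫ p = i) (hi' : ∃ c' : I ⟶ P', c' ≫ p' = i)
    (hconj : ∀ s : S, ∃ (U : Scheme.{u}) (f : U ⟶ S), Flat f ∧ LocallyOfFinitePresentation f ∧ s ∈ Set.range f.base ∧
      ∃ g : 𝟙_ _ ⟶ Red.bc f G, RedSub.ConjEq ((Over.pullback f).map p) ((Over.pullback f).map p') g) :
    InP p' p := by
  have hcl' : IsClosedImmersion p'.left := hP'.2.1
  have hmono : Mono p'.left := inferInstance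
  obtain ⟨z, hz⟩ := FacLoc.exists_fac_of_local p.left p'.left fun y => by
    obtain ⟨U, f, hf1, hf2, ⟨w, hw⟩, g₀, hg₀⟩ := hconj (P.hom y)
    obtain ⟨g, hg⟩ := ConjBc.exists_conjEq f p p' g₀ hg₀
    obtain ⟨v, hv1, hv2⟩ := Scheme.Pullback.exists_preimage_pullback (f := P.hom) (g := f) y w hw.symm
    let V : Over S := Over.mk (pullback.snd P.hom f ≫ f)
    let u₁ : V ⟶ P := Over.homMk (pullback.fst P.hom f) pullback.condition
    let u₂ : V ⟶ Over.mk f := Over.homMk (pullback.snd P.hom f) rfl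
    -- `g` lies in `P`
    obtain ⟨q, hq⟩ := (inP_of_conjEq hG p hP p' i hI hi hi' g hg).comp u₂
    have hp := hP.1
    -- the point `u₁` of `P` is `g (g⁻¹ u₁ g) g⁻¹`
    obtain ⟨z, hz⟩ := (hg V u₂).1 (q⁻¹ * u₁ * q)
    refine ⟨pullback P.hom f, pullback.fst P.hom f, inferInstance, inferInstance, ⟨v, hv1⟩, z.left, ?_⟩
    have h1 : z ≫ p' = u₁ ≫ p := by
      rw [← hz, MonObj.mul_comp, MonObj.mul_comp, GrpObj.inv_comp, hq]
      group
    exact congr(($h1).left)
  refine ⟨Over.homMk z ?_, ?_⟩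
  · rw [← Over.w p', ← Category.assoc, hz, Over.w p]
  · ext1
    exact hz

/-- **Two parabolic subgroups which contain a common parabolic subgroup and are conjugate locally
for the fppf topology are equal.** -/
theorem eq_of_common_parabolic (hG : Red.IsReductive G) (p : P ⟶ G) (hP : Red.IsParabolic p)
    (p' : P' ⟶ G) (hP' : Red.IsParabolic p') (i : I ⟶ G) (hI : Red.IsParabolic i)
    (hi : ∃ c : I ⟶ P, c ≫ p = i) (hi' : ∃ c' : I ⟶ P', c' ≫ p' = i)
    (hconj : ∀ s : S, ∃ (U : Scheme.{u}) (f : U ⟶ S), Flat f ∧ LocallyOfFinitePresentation f ∧ s ∈ Set.range f.base ∧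
      ∃ g : 𝟙_ _ ⟶ Red.bc f G, RedSub.ConjEq ((Over.pullback f).map p) ((Over.pullback f).map p') g) :
    ∃ e : P ≅ P', e.hom ≫ p' = p := by
  obtain ⟨u, hu⟩ := inP_of_locally_conj hG p hP p' hP' i hI hi hi' hconj
  obtain ⟨v, hv⟩ := inP_of_locally_conj hG p' hP' p hP i hI hi' hi fun s => by
    obtain ⟨U, f, hf1, hf2, hs, g, hg⟩ := hconj s
    exact ⟨U, f, hf1, hf2, hs, g⁻¹, TrBorel.ConjEq.inv hg⟩
  have hcl : IsClosedImmersion p.left := hP.2.1
  have hcl' : IsClosedImmersion p'.left := hP'.2.1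
  have hm : Mono p := Over.mono_of_mono_left p
  have hm' : Mono p' := Over.mono_of_mono_left p'
  refine ⟨⟨u, v, ?_, ?_⟩, hu⟩
  · rw [← cancel_mono p, Category.assoc, hv, hu, Category.id_comp]
  · rw [← cancel_mono p', Category.assoc, hu, hv, Category.id_comp]

end K545.Common
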