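import Groth.Agent.UnramA.FibreFlat
import Groth.Agent.Sga3B.Parab.EtHom
import Mathlib.AlgebraicGeometry.Morphisms.LocalFlatDescent

/-!
# Smoothness of a morphism of `S`-schemes can be checked on the fibres
-/

set_option autoImplicit false

universe u

open CategoryTheory AlgebraicGeometry Limits

namespace K545.FibSmooth

open Groth.Agent.Sga3B.Parab

variable {S S' : Scheme.{u}}

/-- Base change of smoothness. -/
theorem smooth_bc (f : S' ⟶ S) {X Y : Over S} (φ : X ⟶ Y) (h : Smooth φ.left) :
    Smooth ((Over.pullback f).map φ).left :=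
  MorphismProperty.of_isPullback (P := @Smooth) (EtHom.isPullback_map f φ) h

/-- Smoothness can be checked on the fibres. -/
theorem smooth_of_fibres {X Y : Over S} (φ : X ⟶ Y) [LocallyOfFiniteType Y.hom] [Smooth X.hom]
    (h : ∀ s : S, Smooth ((Over.pullback (S.fromSpecResidueField s)).map φ).left) :
    Smooth φ.left := by
  refine Groth.Agent.UnramA.FibreFlat.smooth_of_fibres Y.hom X.hom φ.left (Over.w φ) fun s => ?_
  change Smooth (pullback.snd φ.left (pullback.fst Y.hom (S.fromSpecResidueField s)))
  have h1 := EtHom.isPullback_map (S.fromSpecResidueField s) φ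
  refine (MorphismProperty.cancel_left_of_respectsIso @Smooth h1.isoPullback.hom _).1 ?_
  rw [h1.isoPullback_hom_snd]
  exact h s

/-- Smoothness after base change along a composite. -/
theorem smooth_comp_iff {S'' : Scheme.{u}} (q : S'' ⟶ S') (g : S' ⟶ S) {X Y : Over S}
    (φ : X ⟶ Y) : Smooth ((Over.pullback (q ≫ g)).map φ).left ↔
      Smooth ((Over.pullback q).map ((Over.pullback g).map φ)).left := by
  let e : Arrow.mk ((Over.pullback (q ≫ g)).map φ).left ≅
      Arrow.mk ((Over.pullback q).map ((Over.pullback g).map φ)).left :=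
    Arrow.isoMk ((Over.forget _).mapIso ((Over.pullbackComp q g).app X))
      ((Over.forget _).mapIso ((Over.pullbackComp q g).app Y))
      (congrArg CommaMorphism.left ((Over.pullbackComp q g).hom.naturality φ).symm)
  exact MorphismProperty.arrow_mk_iso_iff @Smooth e

/-- Smoothness descends along a field extension. -/
theorem smooth_of_field {K L : Type u} [Field K] [Field L]
    (θ : Spec (CommRingCat.of L) ⟶ Spec (CommRingCat.of K)) {X Y : Over (Spec (CommRingCat.of K))}
    (φ : X ⟶ Y) (h : Smooth ((Over.pullback θ).map φ).left) : Smooth φ.left := by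
  have h1 := EtHom.isPullback_map θ φ
  have h2 : Flat θ := by
    obtain ⟨r, rfl⟩ := Spec.map_surjective θ
    let := r.hom.toAlgebra
    rw [HasRingHomProperty.Spec_iff (P := @Flat)]
    change (algebraMap K L).Flat
    rw [RingHom.flat_algebraMap_iff]
    infer_instance
  have h3 : Surjective θ := ⟨fun x => ⟨IsLocalRing.closedPoint L, Subsingleton.elim _ _⟩⟩
  have h4 : Flat (pullback.fst Y.hom θ) :=
    MorphismProperty.pullback_fst (P := @Flat) _ _ h2
  have h5 : Surjective (pullback.fst Y.hom θ) :=
    MorphismProperty.pullback_fst (P := @Surjective) _ _ h3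
  have h6 : QuasiCompact θ := inferInstance
  have h7 : QuasiCompact (pullback.fst Y.hom θ) :=
    MorphismProperty.pullback_fst (P := @QuasiCompact) _ _ h6
  exact MorphismProperty.of_isPullback_of_descendsAlong (P := @Smooth)
    (Q := @Surjective ⊓ @Flat ⊓ @QuasiCompact) h1.flip ⟨⟨h5, h4⟩, h7⟩ h

/-- Smoothness of the fibres is invariant under surjective base change. -/
theorem smooth_fibre_of_bc {X Y : Over S} (φ : X ⟶ Y) (g : S' ⟶ S) (s' : S')
    (h : Smooth ((Over.pullback g).map φ).left) :
    Smooth ((Over.pullback (S.fromSpecResidueField (g s'))).map φ).left := by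
  -- the two composites `Spec κ(s') ⟶ S` agree
  have hw := Scheme.Hom.SpecMap_residueFieldMap_fromSpecResidueField g s'
  refine smooth_of_field (K := S.residueField (g s')) (L := S'.residueField s')
    (Spec.map (g.residueFieldMap s')) ((Over.pullback (S.fromSpecResidueField (g s'))).map φ) ?_
  rw [← smooth_comp_iff]
  have h2 := (smooth_comp_iff (S'.fromSpecResidueField s') g φ).2 (smooth_bc _ _ h)
  rw [← hw] at h2
  exact h2

/-- Smoothness descends along surjective base change, for a morphism from a smooth `S`-scheme. -/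
theorem smooth_of_surjective {X Y : Over S} (φ : X ⟶ Y) [LocallyOfFiniteType Y.hom]
    [Smooth X.hom] (g : S' ⟶ S) [hg : Surjective g] (h : Smooth ((Over.pullback g).map φ).left) :
    Smooth φ.left := by
  refine smooth_of_fibres φ fun s => ?_
  obtain ⟨s', rfl⟩ := hg.surj s
  exact smooth_fibre_of_bc φ g s' h

end K545.FibSmooth
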