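import Groth.Prelude.Def_RedSub
import Groth.Prelude.Def_AGF
import Groth.Agent.Sga3B.Pts
import Groth.Agent.Sga3B.DSPts

/-!
# Base change of sections, conjugation and points
-/

set_option autoImplicit false

universe u

open CategoryTheory MonoidalCategory CartesianMonoidalCategory MonObj GrpObj AlgebraicGeometry Limits

namespace K545.Sec

variable {S S' : Scheme.{u}} (f : S' ⟶ S) {G A X Y : Over S}

/-- The base change of a section. -/
noncomputable def bcSec (g : 𝟙_ (Over S) ⟶ X) : 𝟙_ (Over S') ⟶ Red.bc f X :=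
  Over.homMk (pullback.lift (f ≫ g.left) (𝟙 S') (by
    have h : g.left ≫ X.hom = 𝟙 S := Over.w g
    rw [Category.assoc, h]
    exact (Category.comp_id f).trans (Category.id_comp f).symm)) (pullback.lift_snd _ _ _)

@[simp]
theorem bcSec_fst (g : 𝟙_ (Over S) ⟶ X) :
    (bcSec f g).left ≫ pullback.fst X.hom f = f ≫ g.left := pullback.lift_fst _ _ _

/-- A section of the base change is an `S'`-valued point. -/
noncomputable def ptOf {f : S' ⟶ S} (x : 𝟙_ (Over S') ⟶ Red.bc f X) : Over.mk f ⟶ X :=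
  Over.homMk (x.left ≫ pullback.fst X.hom f) (by
    have h : x.left ≫ pullback.snd X.hom f = 𝟙 S' := Over.w x
    rw [Category.assoc, pullback.condition, ← Category.assoc, h]
    exact Category.id_comp f)

@[simp]
theorem ptOf_left {f : S' ⟶ S} (x : 𝟙_ (Over S') ⟶ Red.bc f X) :
    (ptOf x).left = x.left ≫ pullback.fst X.hom f := rfl

theorem hom_ext_bc {Z : Over S'} {x y : Z ⟶ Red.bc f X}
    (h : x.left ≫ pullback.fst X.hom f = y.left ≫ pullback.fst X.hom f) : x = y := by
  ext1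
  exact pullback.hom_ext h ((Over.w x).trans (Over.w y).symm)

theorem ptOf_injective {f : S' ⟶ S} {x y : 𝟙_ (Over S') ⟶ Red.bc f X} (h : ptOf x = ptOf y) :
    x = y :=
  hom_ext_bc f (congrArg (fun k => k.left) h)

theorem ptOf_surjective {f : S' ⟶ S} (y : Over.mk f ⟶ X) :
    ∃ x : 𝟙_ (Over S') ⟶ Red.bc f X, ptOf x = y := by
  have h : y.left ≫ X.hom = f := Over.w y
  refine ⟨Over.homMk (pullback.lift y.left (𝟙 S') (h.trans (Category.id_comp f).symm))
    (pullback.lift_snd _ _ _), ?_⟩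
  ext1
  exact pullback.lift_fst _ _ _

theorem ptOf_comp {f : S' ⟶ S} (x : 𝟙_ (Over S') ⟶ Red.bc f X) (g : X ⟶ Y) :
    ptOf (x ≫ (Over.pullback f).map g) = ptOf x ≫ g := by
  ext1
  change (x.left ≫ ((Over.pullback f).map g).left) ≫ pullback.fst Y.hom f =
    (x.left ≫ pullback.fst X.hom f) ≫ g.left
  have h : ((Over.pullback f).map g).left ≫ pullback.fst Y.hom f =
      pullback.fst X.hom f ≫ g.left := pullback.lift_fst _ _ _
  rw [Category.assoc, Category.assoc, h]

theorem ptOf_bcSec (g : 𝟙_ (Over S) ⟶ X) : ptOf (bcSec f g) = toUnit (Over.mk f) ≫ g := by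
  ext1
  rw [ptOf_left, bcSec_fst]
  rfl

theorem bcSec_eq {f : S' ⟶ S} {g : 𝟙_ (Over S) ⟶ X} {x : 𝟙_ (Over S') ⟶ Red.bc f X}
    (h : toUnit (Over.mk f) ≫ g = ptOf x) : bcSec f g = x :=
  ptOf_injective ((ptOf_bcSec f g).trans h)

theorem bcSec_comp (g : 𝟙_ (Over S) ⟶ X) (k : X ⟶ Y) :
    bcSec f (g ≫ k) = bcSec f g ≫ (Over.pullback f).map k := by
  apply ptOf_injective
  rw [ptOf_comp, ptOf_bcSec, ptOf_bcSec, Category.assoc]

theorem map_toUnit_comp (g : 𝟙_ (Over S) ⟶ G) (X : Over S) :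
    (Over.pullback f).map (toUnit X ≫ g) = toUnit ((Over.pullback f).obj X) ≫ bcSec f g := by
  apply hom_ext_bc
  have h1 : ((Over.pullback f).map (toUnit X ≫ g)).left ≫ pullback.fst G.hom f =
      pullback.fst X.hom f ≫ (toUnit X ≫ g).left := pullback.lift_fst _ _ _
  rw [h1, Over.comp_left, Over.comp_left, Category.assoc, bcSec_fst]
  have h2 : (toUnit X).left = X.hom := rfl
  have h3 : (toUnit ((Over.pullback f).obj X)).left = pullback.snd X.hom f := rfl
  rw [h2, h3, ← Category.assoc, pullback.condition]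
  exact Category.assoc _ _ _

variable [GrpObj G]

theorem map_mul (x y : X ⟶ G) : (Over.pullback f).map (x * y) =
    ((Over.pullback f).map x * (Over.pullback f).map y : Red.bc f X ⟶ Red.bc f G) :=
  Functor.map_mul (Over.pullback f) x y

theorem map_inv (x : X ⟶ G) : (Over.pullback f).map x⁻¹ =
    (((Over.pullback f).map x)⁻¹ : Red.bc f X ⟶ Red.bc f G) :=
  Functor.map_inv' (Over.pullback f) x

theorem map_conjBy (g : 𝟙_ (Over S) ⟶ G) (i : A ⟶ G) :
    (Over.pullback f).map (AGF.conjBy g i) =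
      AGF.conjBy (bcSec f g) ((Over.pullback f).map i) := by
  rw [map_mul, map_mul, map_inv, map_toUnit_comp]

omit [GrpObj G] in
theorem epi_toUnit : Epi (toUnit ((Over.pullback f).obj (𝟙_ (Over S)))) := by
  have h : IsIso (toUnit ((Over.pullback f).obj (𝟙_ (Over S)))).left :=
    inferInstanceAs (IsIso (pullback.snd (𝟙 S) f))
  have h2 : IsIso ((Over.forget S').map (toUnit ((Over.pullback f).obj (𝟙_ (Over S))))) := h
  have : IsIso (toUnit ((Over.pullback f).obj (𝟙_ (Over S)))) :=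
    isIso_of_reflects_iso _ (Over.forget S')
  infer_instance

theorem bcSec_mul (x y : 𝟙_ (Over S) ⟶ G) : bcSec f (x * y) = bcSec f x * bcSec f y := by
  have := epi_toUnit (S := S) f
  rw [← cancel_epi (toUnit ((Over.pullback f).obj (𝟙_ (Over S)))), MonObj.comp_mul,
    ← map_toUnit_comp, ← map_toUnit_comp, ← map_toUnit_comp, MonObj.comp_mul, map_mul]

theorem bcSec_inv (x : 𝟙_ (Over S) ⟶ G) : bcSec f x⁻¹ = (bcSec f x)⁻¹ := by
  have := epi_toUnit (S := S) f
  rw [← cancel_epi (toUnit ((Over.pullback f).obj (𝟙_ (Over S)))), GrpObj.comp_inv,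
    ← map_toUnit_comp, ← map_toUnit_comp, GrpObj.comp_inv, map_inv]

theorem ptOf_mul {f : S' ⟶ S} (x y : 𝟙_ (Over S') ⟶ Red.bc f G) :
    ptOf (x * y) = ptOf x * ptOf y := by
  let i : Over.mk f ⟶ (Over.map f).obj (𝟙_ (Over S')) := Over.homMk (𝟙 S') (by
    change 𝟙 S' ≫ 𝟙 S' ≫ f = f
    rw [Category.id_comp, Category.id_comp])
  have h : ∀ z : 𝟙_ (Over S') ⟶ Red.bc f G,
      ptOf z = i ≫ (Groth.Agent.Sga3B.DSPts.bcEquiv f (𝟙_ (Over S')) G).symm z := fun z => by
    ext1
    rw [ptOf_left, Over.comp_left, Groth.Agent.Sga3B.DSPts.bcEquiv_symm_left]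
    exact (Category.id_comp _).symm
  rw [h, h, h, _root_.map_mul, MonObj.comp_mul]

end K545.Sec
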