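import Groth.Agent.S3978
import Groth.Agent.S3981
import Groth.Agent.S3968
import Groth.Agent.S2997
import Groth.Agent.Redsub.H649.ConjLoc
import Groth.Agent.Par.K547.Fam
import Groth.Agent.RedSub.K197.QuotPts
import Groth.Agent.RedSub.H645.ConjEqIff
import Groth.Agent.Par.K545.Tools
import Groth.Agent.Par.K545.Sec
import Groth.Agent.RedSub.H650.ValAC
import Groth.Agent.Etbase.SpreadOut

/-!
# Sections of `G ⟶ G/P` over semi-local bases

* `exists_phi`: the monomorphism from `G/P` to the scheme of parabolic subgroups;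
* `exists_parabolic_of_pt`: the parabolic subgroup defined by a section of `G/P`;
* `exists_lift_semilocal`: over a semi-local affine base, sections of `G/P` lift to `G`.
-/

set_option autoImplicit false

universe u

open CategoryTheory MonoidalCategory CartesianMonoidalCategory MonObj GrpObj AlgebraicGeometry

namespace K545.QuotZar

open Groth.Agent Groth.Agent.Sga3B Groth.Agent.Redsub.H649 Groth.Agent.Redsub.H649.ConjPts
  Groth.Agent.RedSub.H648

variable {S : Scheme.{u}} {G P : Over S} [GrpObj G] [GrpObj P] {p : P ⟶ G}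

/-- The scheme of parabolic subgroups classifies the conjugates of a parabolic subgroup. -/
theorem classifies (hG : Red.IsReductive G) (hP : Red.IsParabolic p) {M : Over S} {H : Over M.left}
    [GrpObj H] {h : H ⟶ Red.bc M.hom G} (hM : RedSub.RepresentsPar G M H h) :
    QuotCrit.Classifies p M h := by
  intro S' f g₀
  refine hM.2 S' f (Red.bc f P) (ConjPts.fam p g₀) ?_
  apply Groth.Agent.K547.Fam.isParabolicSub_of_isParabolic
  have h1 : Red.IsParabolic ((Over.pullback f).map p) := BorBc.isParabolic_bc f hG hP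
  have : IsMonHom (MT.cjIso g₀).hom := MT.isMonHom_cj g₀
  refine AlgBc.isParabolic_of_arrow (Iso.refl _) (Grp.mkIso' (MT.cjIso g₀)) ?_ h1
  exact (Category.id_comp _).symm

section pb

variable {i : P ⟶ G} {M : Over S} {m : G ⟶ M}

theorem mul_comp_eq_of_isPullback (hpb : IsPullback (fst G P) ((G ◁ i) ≫ μ[G]) m m) {T : Over S}
    (g : T ⟶ G) (h : T ⟶ P) : (g * (h ≫ i)) ≫ m = g ≫ m := by
  rw [← K197.QuotPts.lift_whisker_mul, Category.assoc, Category.assoc]
  have h1 := hpb.w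
  rw [Category.assoc] at h1
  rw [← h1, lift_fst_assoc]

theorem exists_of_eq_of_isPullback (hpb : IsPullback (fst G P) ((G ◁ i) ≫ μ[G]) m m) {T : Over S}
    (g g' : T ⟶ G) (h : g ≫ m = g' ≫ m) : ∃ h : T ⟶ P, g' = g * (h ≫ i) := by
  obtain ⟨l, h1, h2⟩ := hpb.exists_lift g g' h
  refine ⟨l ≫ snd _ _, ?_⟩
  rw [← h2, ← K197.QuotPts.lift_whisker_mul]
  congr 1
  apply CartesianMonoidalCategory.hom_ext
  · rw [h1, lift_fst]
  · rw [lift_snd]

end pb

/-- The monomorphism from `G/P` to the scheme of parabolic subgroups. -/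
theorem exists_phi (hG : Red.IsReductive G) (hP : Red.IsParabolic p) {M : Over S} {H : Over M.left}
    [GrpObj H] {h : H ⟶ Red.bc M.hom G} (hM : RedSub.RepresentsPar G M H h) {X : Over S} {q : G ⟶ X}
    (hq : RedSub.IsQuotient p q) :
    ∃ Φ : X ⟶ M, Mono Φ ∧ RedSub.SamePoints G G.hom (RedSub.conjFamily p) M h (q ≫ Φ).left := by
  obtain ⟨m, hm⟩ := QuotCrit.exists_classifying (classifies hG hP hM)
  have hN : Red.IsNormalizerOf p p :=
    (S3968.result hG p (Groth.Agent.K547.Fam.isParabolicSub_of_isParabolic hP)).2.2.1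
  have hpb := QuotCrit.isPullback_of_classifying hN (classifies hG hP hM) m hm
  have hc := K197.QuotPts.isCov hq
  obtain ⟨Φ, hΦ⟩ := K197.Fppf.exists_desc hc m (fun Z a b hab => by
    obtain ⟨y, rfl⟩ := K197.QuotPts.exists_of_eq hq a b hab
    rw [mul_comp_eq_of_isPullback hpb])
  refine ⟨Φ, ⟨fun {T} x y hxy => ?_⟩, by rwa [hΦ]⟩
  obtain ⟨T', c, g, hc', hg⟩ := K197.Fppf.exists_lift_local hc x
  obtain ⟨T'', c', g', hc'', hg'⟩ := K197.Fppf.exists_lift_local hc (c ≫ y)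
  apply K197.Fppf.hom_ext (hc''.comp hc')
  have h1 : (c' ≫ g) ≫ m = g' ≫ m := by
    rw [← hΦ, ← Category.assoc, ← Category.assoc, Category.assoc c', hg, hg', Category.assoc,
      Category.assoc, Category.assoc, Category.assoc, hxy]
  obtain ⟨z, hz⟩ := exists_of_eq_of_isPullback hpb _ _ h1
  rw [Category.assoc, Category.assoc, ← hg', hz, K197.QuotPts.mul_comp_eq hq, Category.assoc, hg]

/-- The parabolic subgroup defined by a section of `G/P`. -/
theorem exists_parabolic_of_pt (hG : Red.IsReductive G) (hP : Red.IsParabolic p) {X : Over S}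
    {q : G ⟶ X} (hq : RedSub.IsQuotient p q) (x : 𝟙_ (Over S) ⟶ X) :
    ∃ (Q : Over S) (_ : GrpObj Q) (i : Q ⟶ G), Red.IsParabolic i ∧
      ∀ (T : Over S) (g : T ⟶ G), g ≫ q = toUnit T ≫ x ↔ RedSub.ConjEq p i g := by
  obtain ⟨M, H, _, h, hM, -, -⟩ := S3978.result G hG
  obtain ⟨Φ, hΦ, hs⟩ := exists_phi hG hP hM hq
  have hqM : (q ≫ Φ).left ≫ M.hom = G.hom := Over.w _
  have hGM := RedBcAny636.isReductive_bc M.hom hG
  have hcl : IsClosedImmersion h.left := (S3968.result hGM h hM.1).1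
  obtain ⟨Q, _, i, hQ, hi⟩ := Groth.Agent.K547.Fam.exists_sub hG h hM.1 hcl (x ≫ Φ).left (Over.w _)
  have hi' : ∀ (T : Over S) (c : T ⟶ G), Pt h (T.hom ≫ (x ≫ Φ).left) c.left ↔
      ∃ z : T ⟶ Q, z ≫ i = c := by
    intro T c
    refine (hi T.left T.hom c.left).trans ?_
    constructor
    · rintro ⟨z, h1, h2⟩
      refine ⟨Over.homMk z h1, ?_⟩
      ext1
      exact h2
    · rintro ⟨z, rfl⟩
      exact ⟨z.left, Over.w z, rfl⟩
  refine ⟨Q, inferInstance, i, hQ, fun T g => ?_⟩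
  rw [ConjLoc.conjEq_iff]
  constructor
  · intro hg X' y c
    rw [QuotCrit.inC_iff_of_samePoints hs, ← hi']
    have e : (y ≫ g).left ≫ (q ≫ Φ).left = X'.hom ≫ (x ≫ Φ).left := by
      rw [← Over.comp_left]
      have e1 : (y ≫ g) ≫ q ≫ Φ = toUnit X' ≫ x ≫ Φ := by
        have e2 : y ≫ toUnit T = toUnit X' := Subsingleton.elim _ _
        rw [Category.assoc, ← Category.assoc g, hg, Category.assoc, ← Category.assoc, e2]
      rw [e1]
      rfl
    rw [e]
  · intro hg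
    rw [← cancel_mono Φ]
    let g' : Over.mk T.hom ⟶ G := Over.homMk g.left (Over.w g)
    have h1 : RedSub.SamePoints G T.hom (fam p g') M h ((g ≫ q ≫ Φ)).left := by
      have := QuotCrit.samePoints_of_conjFamily hqM hs g'
      exact this
    have h2 : RedSub.SamePoints G T.hom (fam p g') M h ((toUnit T ≫ x) ≫ Φ).left := by
      refine QuotCrit.samePoints_of_iff g' _ (Over.w _) fun Y y c => ?_
      let y' : Y ⟶ T := Over.homMk y.left (Over.w y)
      have e1 : y ≫ g' = y' ≫ g := by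
        ext1
        rfl
      have e2 : y.left ≫ ((toUnit T ≫ x) ≫ Φ).left = Y.hom ≫ (x ≫ Φ).left := by
        have e3 : y' ≫ toUnit T = toUnit Y := Subsingleton.elim _ _
        have e4 : y.left ≫ ((toUnit T ≫ x) ≫ Φ).left = (y' ≫ (toUnit T ≫ x) ≫ Φ).left := rfl
        rw [e4]
        have e5 : y' ≫ (toUnit T ≫ x) ≫ Φ = toUnit Y ≫ x ≫ Φ := by
          rw [Category.assoc, ← Category.assoc, e3]
        rw [e5]
        rfl
      rw [e1, e2, hg Y y' c, hi']
    have h3 := (classifies hG hP hM T.left T.hom g').unique ⟨Over.w (g ≫ q ≫ Φ), h1⟩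
      ⟨Over.w ((toUnit T ≫ x) ≫ Φ), h2⟩
    rw [Category.assoc]
    ext1
    exact h3

/-- Over a semi-local affine base, sections of `G/P` lift to `G`. -/
theorem exists_lift_semilocal {A : Type u} [CommRing A] (hA : {m : Ideal A | m.IsMaximal}.Finite)
    {G P : Over (Spec (CommRingCat.of A))} [GrpObj G] [GrpObj P] (hG : Red.IsReductive G)
    {p : P ⟶ G} (hP : Red.IsParabolic p) {X : Over (Spec (CommRingCat.of A))} {q : G ⟶ X}
    (hq : RedSub.IsQuotient p q) (x : 𝟙_ (Over (Spec (CommRingCat.of A))) ⟶ X) :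
    ∃ g : 𝟙_ (Over (Spec (CommRingCat.of A))) ⟶ G, g ≫ q = x := by
  obtain ⟨Q, _, i, hQ, hi⟩ := exists_parabolic_of_pt hG hP hq x
  obtain ⟨L, _, l, hl⟩ := S2997.result G P hG p hP
  obtain ⟨P', _, p', l', hP', hl'm, hpb, hl'⟩ := Tools.exists_opp hG hP hl
  obtain ⟨U, _, uU, hU⟩ := Tools.exists_rad hG hP
  obtain ⟨U', _, uU', hU'⟩ := Tools.exists_rad hG hP'
  have := hl.1
  obtain ⟨u, u', e, he⟩ := S3981.result hA hG p p' i hP hP' hQ l l' hpb hl hl' uU hU uU' hU' (by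
    intro s
    have hc := K197.QuotPts.isCov hq
    have := hc.surj
    have := hc.lfp
    obtain ⟨y, hy⟩ := Groth.Agent.RedSub.H650.ValAC.exists_lift_pt q.left
      (AlgebraicClosure ((Spec (CommRingCat.of A)).residueField s)) (Red.geomPt s ≫ x.left)
    have hy' : y ≫ G.hom = Red.geomPt s := by
      have h1 : x.left ≫ X.hom = 𝟙 _ := Over.w x
      rw [← Over.w q, ← Category.assoc, hy, Category.assoc, h1]
      exact Category.comp_id _
    let g : Over.mk (Red.geomPt s) ⟶ G := Over.homMk y hy'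
    have hg : g ≫ q = toUnit _ ≫ x := by
      ext1
      exact hy
    have h2 := (hi _ g).1 hg
    exact Groth.Agent.RedSub.H645.ConjEqIff.exists_conjEq_bc (Red.geomPt s)
      ((Groth.Agent.RedSub.H645.ConjEqIff.conjEq_iff g).1 h2))
  refine ⟨(u ≫ uU ≫ p) * (u' ≫ uU' ≫ p'), ?_⟩
  have h1 := (hi _ ((u ≫ uU ≫ p) * (u' ≫ uU' ≫ p'))).2 (ConjTools.conjEq_of_iso e he)
  rw [h1]
  have : toUnit (𝟙_ (Over (Spec (CommRingCat.of A)))) = 𝟙 _ := Subsingleton.elim _ _
  rw [this, Category.id_comp]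

/-- Semi-local points of `G/P` lift to `G`. -/
theorem exists_lift {A : Type u} [CommRing A] (hA : {m : Ideal A | m.IsMaximal}.Finite)
    (hG : Red.IsReductive G) (hP : Red.IsParabolic p) {X : Over S} {q : G ⟶ X}
    (hq : RedSub.IsQuotient p q) (c : Spec (CommRingCat.of A) ⟶ S) (x : Over.mk c ⟶ X) :
    ∃ g : Over.mk c ⟶ G, g ≫ q = x := by
  have := Tools.mono_of_isParabolic hP
  obtain ⟨x', rfl⟩ := Sec.ptOf_surjective x
  obtain ⟨g, rfl⟩ := exists_lift_semilocal hA (RedBcAny636.isReductive_bc c hG)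
    (BorBc.isParabolic_bc c hG hP) (Groth.Agent.RedSub.H650.QuotPts.isQuotient_bc c hq) x'
  exact ⟨Sec.ptOf g, (Sec.ptOf_comp g q).symm⟩

/-- `G ⟶ G/P` has sections Zariski-locally. -/
theorem exists_section_P (hG : Red.IsReductive G) (hP : Red.IsParabolic p) {X : Over S} {q : G ⟶ X}
    (hq : RedSub.IsQuotient p q) (x : X.left) :
    ∃ (V : X.left.Opens) (σ : (V : Scheme.{u}) ⟶ G.left), x ∈ V ∧ σ ≫ q.left = V.ι := by
  have hc := K197.QuotPts.isCov hq
  have := hc.lfp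
  let A : Type u := X.left.presheaf.stalk x
  let j : Spec (CommRingCat.of A) ⟶ X.left := X.left.fromSpecStalk x
  obtain ⟨g, hg⟩ := exists_lift (A := A) (by
    refine Set.Subsingleton.finite fun m hm m' hm' => ?_
    rw [IsLocalRing.eq_maximalIdeal hm, IsLocalRing.eq_maximalIdeal hm']) hG hP hq (j ≫ X.hom)
    (Over.homMk j)
  obtain ⟨V, hV, τ, -, hτ⟩ := Groth.Agent.Etbase.SpreadOut.spread_out_section (f := q.left) (s := x) g.left
    (congrArg (fun k => k.left) hg)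
  exact ⟨V, τ, hV, hτ⟩

section Levi

variable {L : Over S} [GrpObj L] {l : L ⟶ P}

/-- Lifting of points of `G/L` which lift to `G` as points of `G/P`. -/
theorem exists_lift_levi (hP : Red.IsParabolic p) (hl : Par.IsLevi l) {X Y : Over S} {q : G ⟶ X}
    (hq : RedSub.IsQuotient p q) {r : G ⟶ Y} (hr : RedSub.IsQuotient (l ≫ p) r) {π : Y ⟶ X}
    (hπ : r ≫ π = q) {T : Over S} (w : T ⟶ Y) (s : T ⟶ G) (hs : s ≫ q = w ≫ π) :
    ∃ t : T ⟶ G, t ≫ r = w := by
  have := hP.1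
  obtain ⟨hl1, hl2, -, U, _, v, hv, hiso⟩ := hl
  have := hv.1
  have hdec : ∀ {Z : Over S} (z : Z ⟶ P), ∃ (a : Z ⟶ L) (b : Z ⟶ U), z = (b ≫ v) * (a ≫ l) := by
    intro Z z
    let k : Z ⟶ L ⊗ U := z⁻¹ ≫ inv ((l ⊗ₘ v) ≫ μ[P])
    refine ⟨(k ≫ fst _ _)⁻¹, (k ≫ snd _ _)⁻¹, ?_⟩
    have h1 : k ≫ (l ⊗ₘ v) ≫ μ[P] = z⁻¹ := by
      simp only [k, Category.assoc, IsIso.inv_hom_id, Category.comp_id]
    have h2 : k ≫ (l ⊗ₘ v) ≫ μ[P] = (k ≫ fst _ _ ≫ l) * (k ≫ snd _ _ ≫ v) := by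
      rw [Hom.mul_def, ← Category.assoc]
      congr 1
      apply CartesianMonoidalCategory.hom_ext <;> simp
    have h3 : z = ((k ≫ fst _ _ ≫ l) * (k ≫ snd _ _ ≫ v))⁻¹ := by
      rw [← h2, h1, _root_.inv_inv]
    rw [GrpObj.inv_comp, GrpObj.inv_comp, ← _root_.mul_inv_rev, Category.assoc k, Category.assoc k]
    exact h3
  have huniq : ∀ {Z : Over S} (a a' : Z ⟶ L) (b b' : Z ⟶ U),
      (b ≫ v) * (a ≫ l) = (b' ≫ v) * (a' ≫ l) → b = b' := by
    intro Z a a' b b' h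
    have h1 : lift a⁻¹ b⁻¹ ≫ (l ⊗ₘ v) ≫ μ[P] = lift a'⁻¹ b'⁻¹ ≫ (l ⊗ₘ v) ≫ μ[P] := by
      have h2 : ∀ (c : Z ⟶ L) (d : Z ⟶ U), lift c d ≫ (l ⊗ₘ v) ≫ μ[P] = (c ≫ l) * (d ≫ v) := by
        intro c d
        rw [Hom.mul_def, ← Category.assoc, lift_map]
      rw [h2, h2, GrpObj.inv_comp, GrpObj.inv_comp, GrpObj.inv_comp, GrpObj.inv_comp, ← _root_.mul_inv_rev,
        ← _root_.mul_inv_rev, h]
    have h3 := (cancel_mono ((l ⊗ₘ v) ≫ μ[P])).1 h1
    have h4 := congrArg (· ≫ snd _ _) h3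
    simp only [lift_snd] at h4
    exact inv_injective h4
  have hcr := K197.QuotPts.isCov hr
  obtain ⟨E, c, g, hc, hg⟩ := K197.Fppf.exists_lift_local hcr w
  obtain ⟨z, hz⟩ := K197.QuotPts.exists_of_eq hq (c ≫ s) g (by
    rw [Category.assoc, hs, ← hπ, ← Category.assoc, ← Category.assoc, hg])
  obtain ⟨a, b, hab⟩ := hdec z
  obtain ⟨t, ht⟩ := K197.Fppf.exists_desc hc ((c ≫ s) * (b ≫ v ≫ p)) (by
    intro Z x y hxy
    obtain ⟨k, hk⟩ := K197.QuotPts.exists_of_eq hr (x ≫ g) (y ≫ g) (by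
      rw [Category.assoc, Category.assoc, hg, ← Category.assoc, ← Category.assoc, hxy])
    have h1 : ((y ≫ b) ≫ v) * ((y ≫ a) ≫ l) = ((x ≫ b) ≫ v) * (((x ≫ a) * k) ≫ l) := by
      have := Tools.mono_of_isParabolic hP
      rw [← cancel_mono p]
      simp only [MonObj.mul_comp, Category.assoc]
      have h2 : y ≫ z ≫ p = (x ≫ z ≫ p) * (k ≫ l ≫ p) := by
        have h3 : z ≫ p = (c ≫ s)⁻¹ * g := by rw [hz]; group
        rw [h3, MonObj.comp_mul, MonObj.comp_mul, hk, GrpObj.comp_inv, GrpObj.comp_inv,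
          ← Category.assoc, ← hxy, Category.assoc]
        group
      rw [hab] at h2
      simp only [MonObj.mul_comp, MonObj.comp_mul, Category.assoc] at h2
      rw [h2]
      group
    have h4 := huniq _ _ _ _ h1
    have h6 : x ≫ b ≫ v ≫ p = y ≫ b ≫ v ≫ p := by
      rw [← Category.assoc, ← h4, Category.assoc]
    rw [MonObj.comp_mul, MonObj.comp_mul, ← Category.assoc, ← Category.assoc y, hxy, h6])
  refine ⟨t, K197.Fppf.hom_ext hc ?_⟩
  rw [← Category.assoc, ht, ← hg, hz, hab]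
  have h5 : (c ≫ s) * (b ≫ v ≫ p) = ((c ≫ s) * ((b ≫ v) * (a ≫ l)) ≫ p) * (a⁻¹ ≫ l ≫ p) := by
    simp only [MonObj.mul_comp, GrpObj.inv_comp, Category.assoc]
    group
  rw [h5, K197.QuotPts.mul_comp_eq hr]

/-- `G ⟶ G/L` has sections Zariski-locally. -/
theorem exists_section_L (hG : Red.IsReductive G) (hP : Red.IsParabolic p) (hl : Par.IsLevi l)
    {Y : Over S} {r : G ⟶ Y} (hr : RedSub.IsQuotient (l ≫ p) r) (y : Y.left) :
    ∃ (V : Y.left.Opens) (σ : (V : Scheme.{u}) ⟶ G.left), y ∈ V ∧ σ ≫ r.left = V.ι := by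
  obtain ⟨X, q, hq, -⟩ :=
    (S3968.result hG p (Groth.Agent.K547.Fam.isParabolicSub_of_isParabolic hP)).2.2.2
  obtain ⟨π, hπ⟩ := K197.Fppf.exists_desc (K197.QuotPts.isCov hr) q (fun Z a b hab => by
    obtain ⟨k, rfl⟩ := K197.QuotPts.exists_of_eq hr a b hab
    rw [← Category.assoc, K197.QuotPts.mul_comp_eq hq])
  obtain ⟨V, σ, hV, hσ⟩ := exists_section_P hG hP hq (π.left y)
  let W : Y.left.Opens := π.left ⁻¹ᵁ V
  have hσG : σ ≫ G.hom = V.ι ≫ X.hom := by rw [← hσ, Category.assoc, Over.w]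
  let w : Over.mk (W.ι ≫ Y.hom) ⟶ Y := Over.homMk W.ι
  let s : Over.mk (W.ι ≫ Y.hom) ⟶ G := Over.homMk ((π.left ∣_ V) ≫ σ) (by
    rw [Category.assoc, hσG, ← Category.assoc, morphismRestrict_ι, Category.assoc, Over.w]
    rfl)
  obtain ⟨t, ht⟩ := exists_lift_levi hP hl hq hr hπ w s (by
    ext1
    change ((π.left ∣_ V) ≫ σ) ≫ q.left = W.ι ≫ π.left
    rw [Category.assoc, hσ, morphismRestrict_ι])
  exact ⟨W, t.left, hV, congrArg (fun k => k.left) ht⟩

end Levi

end K545.QuotZar
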