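import Groth.Agent.S2999
import Groth.Agent.S3977
import Groth.Agent.S8498
import Groth.Agent.S2997
import Groth.Agent.RedSub.H648.BorBc
import Groth.Agent.Par.K545.Tools
import Groth.Agent.Par.K546.DimPar

/-!
# Three cosets of a proper parabolic subgroup over a semi-local ring

* `isIso_of_isIso_levi`: if `L ⟶ P'` is an isomorphism (`P'` opposite to `P` relative to `L`) then `P = G`;
* `isIso_of_levi_parabolic`: if the Levi subgroup `L` of `P` is a parabolic subgroup of `G` then `P = G`;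
* `exists_ne_one`: a nontrivial section of the unipotent radical;
* `three`: the three cosets.
-/

set_option autoImplicit false

universe u

open CategoryTheory MonoidalCategory CartesianMonoidalCategory MonObj GrpObj AlgebraicGeometry

namespace K545.ThreeCos

open Groth.Agent Groth.Agent.Sga3B

section general

variable {S : Scheme.{u}} {G P P' L : Over S} [GrpObj G] [GrpObj P] [GrpObj P'] [GrpObj L]

theorem isIso_of_isIso_levi (hG : Red.IsReductive G) {p : P ⟶ G} (hP : Red.IsParabolic p)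
    {p' : P' ⟶ G} (hP' : Red.IsParabolic p') {l : L ⟶ P} {l' : L ⟶ P'} (hl' : Par.IsLevi l')
    (hpb : IsPullback l l' p p') [IsIso l'] : IsIso p := by
  have hid := K546.DimPar.isParabolic_id hG
  obtain ⟨e, he⟩ := (S2999.result G P' L hG p' hP' l' hl').2 P G p (𝟙 G) l (l' ≫ p') hP hid
    hpb.flip (IsPullback.of_horiz_isIso ⟨by rw [Category.comp_id]⟩)
  rw [Category.comp_id] at he
  rw [← he]
  infer_instance

theorem isIso_of_levi_parabolic (hG : Red.IsReductive G) {p : P ⟶ G} (hP : Red.IsParabolic p)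
    {p' : P' ⟶ G} (hP' : Red.IsParabolic p') {l : L ⟶ P} {l' : L ⟶ P'} (hl : Par.IsLevi l)
    (hl' : Par.IsLevi l') (hpb : IsPullback l l' p p') (hL : Red.IsParabolic (l ≫ p)) : IsIso p := by
  have hpm := Tools.mono_of_isParabolic hP
  have hpb2 : IsPullback l (𝟙 L) p (l ≫ p) := by
    refine ⟨⟨by rw [Category.id_comp]⟩, ⟨Limits.PullbackCone.IsLimit.mk _ (fun s => s.snd)
      (fun s => ?_) (fun s => Category.comp_id _) (fun s m _ h2 => ?_)⟩⟩
    · rw [← cancel_mono p, Category.assoc, ← s.condition]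
    · rw [← h2, Category.comp_id]
  obtain ⟨e, he⟩ := (S2999.result G P L hG p hP l hl).2 P' L p' (l ≫ p) l' (𝟙 L) hP' hL hpb hpb2
  have hlm := hl.2.1
  have h1 : l' ≫ e.hom = 𝟙 L := by
    rw [← cancel_mono (l ≫ p), Category.assoc, he, Category.id_comp, hpb.w]
  have : l' = e.inv := by
    rw [← cancel_mono e.hom, h1, e.inv_hom_id]
  have : IsIso l' := by rw [this]; infer_instance
  exact isIso_of_isIso_levi hG hP hP' hl' hpb

end general

section affine

variable {A : Type u} [CommRing A]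

/-- A vector group without nontrivial sections is trivial. -/
theorem subsingleton_of_sections {E : Type u} [AddCommGroup E] [Module A E] [Module.Finite A E]
    [Module.Projective A E]
    (h : ∀ x y : 𝟙_ (Over (Spec (CommRingCat.of A))) ⟶
        (Spec (CommRingCat.of (SymmetricAlgebra A E))).asOver (Spec (CommRingCat.of A)), x = y)
    {X : Over (Spec (CommRingCat.of A))}
    (x y : X ⟶ (Spec (CommRingCat.of (SymmetricAlgebra A E))).asOver (Spec (CommRingCat.of A))) :
    x = y := by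
  have hfun : ∀ f g : E →ₗ[A] A, f = g := by
    intro f g
    let sec : (E →ₗ[A] A) → (𝟙_ (Over (Spec (CommRingCat.of A))) ⟶
        (Spec (CommRingCat.of (SymmetricAlgebra A E))).asOver (Spec (CommRingCat.of A))) := fun f =>
      Over.homMk (Spec.map (CommRingCat.ofHom (SymmetricAlgebra.lift f).toRingHom)) (by
        change Spec.map _ ≫ Spec.map (CommRingCat.ofHom (algebraMap A (SymmetricAlgebra A E))) = 𝟙 _
        rw [← Spec.map_comp, ← CommRingCat.ofHom_comp]
        have : (SymmetricAlgebra.lift f).toRingHom.comp (algebraMap A (SymmetricAlgebra A E)) =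
          RingHom.id A := (SymmetricAlgebra.lift f).comp_algebraMap
        rw [this]
        exact Spec.map_id _)
    have h1 : (sec f).left = (sec g).left := by rw [h (sec f) (sec g)]
    have h2 := congrArg CommRingCat.Hom.hom (Spec.map_injective h1)
    apply LinearMap.ext
    intro e
    have h3 := RingHom.congr_fun h2 (SymmetricAlgebra.ι A E e)
    change SymmetricAlgebra.lift f (SymmetricAlgebra.ι A E e) =
      SymmetricAlgebra.lift g (SymmetricAlgebra.ι A E e) at h3
    rwa [SymmetricAlgebra.lift_ι_apply, SymmetricAlgebra.lift_ι_apply] at h3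
  have hE : ∀ e : E, e = 0 := by
    intro e
    rw [← Module.forall_dual_apply_eq_zero_iff A e]
    intro f
    rw [hfun f 0]
    rfl
  -- the algebra map is surjective
  have hsurj : Function.Surjective (algebraMap A (SymmetricAlgebra A E)) := by
    have h1 : (Algebra.ofId A (SymmetricAlgebra A E)).comp SymmetricAlgebra.algebraMapInv =
        AlgHom.id A (SymmetricAlgebra A E) := by
      apply SymmetricAlgebra.algHom_ext
      apply LinearMap.ext
      intro e
      rw [hE e, map_zero, map_zero]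
    intro z
    exact ⟨SymmetricAlgebra.algebraMapInv z, AlgHom.congr_fun h1 z⟩
  ext : 1
  have hm : Mono (Spec.map (CommRingCat.ofHom (algebraMap A (SymmetricAlgebra A E)))) := by
    have : IsClosedImmersion (Spec.map (CommRingCat.ofHom (algebraMap A (SymmetricAlgebra A E)))) :=
      IsClosedImmersion.spec_of_surjective _ hsurj
    infer_instance
  exact (cancel_mono (Spec.map (CommRingCat.ofHom (algebraMap A (SymmetricAlgebra A E))))).1
    ((Over.w x).trans (Over.w y).symm)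

variable {G P P' L U : Over (Spec (CommRingCat.of A))} [GrpObj G] [GrpObj P] [GrpObj P'] [GrpObj L]
  [GrpObj U]

/-- The unipotent radical of the opposite parabolic has a nontrivial section if `P ≠ G`. -/
theorem exists_ne_one (hG : Red.IsReductive G) {p : P ⟶ G} (hP : Red.IsParabolic p)
    {p' : P' ⟶ G} (hP' : Red.IsParabolic p') {l : L ⟶ P} {l' : L ⟶ P'} (hl' : Par.IsLevi l')
    (hpb : IsPullback l l' p p') {v : U ⟶ P'} (hU : Par.IsUnipotentRadical v)
    (hiso : IsIso ((l' ⊗ₘ v) ≫ μ[P'])) (hne : ¬ IsIso p) :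
    ∃ x : 𝟙_ (Over (Spec (CommRingCat.of A))) ⟶ U, x ≠ 1 := by
  by_contra hcon
  push Not at hcon
  obtain ⟨E, _, _, hE1, hE2, ⟨e⟩⟩ := S3977.result hG p' hP' v hU
  have hsub : ∀ {X : Over (Spec (CommRingCat.of A))} (x y : X ⟶ U), x = y := by
    intro X x y
    rw [← cancel_mono e.hom]
    refine subsingleton_of_sections (fun x y => ?_) _ _
    rw [← cancel_mono e.inv, hcon (x ≫ e.inv), hcon (y ≫ e.inv)]
  have hlm := hl'.2.1
  have : IsSplitEpi l' := by
    let k : P' ⟶ L ⊗ U := inv ((l' ⊗ₘ v) ≫ μ[P'])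
    refine ⟨⟨⟨k ≫ fst _ _, ?_⟩⟩⟩
    have h1 : k ≫ (l' ⊗ₘ v) ≫ μ[P'] = 𝟙 _ := IsIso.inv_hom_id _
    have h2 : k ≫ (l' ⊗ₘ v) ≫ μ[P'] = (k ≫ fst _ _ ≫ l') * (k ≫ snd _ _ ≫ v) := by
      rw [Hom.mul_def, ← Category.assoc]
      congr 1
      apply CartesianMonoidalCategory.hom_ext <;> simp
    have hv := hU.1
    have h3 : k ≫ snd _ _ ≫ v = 1 := by
      rw [← Category.assoc, hsub (k ≫ snd _ _) 1, MonObj.one_comp]
    rw [h3, _root_.mul_one] at h2
    rw [Category.assoc, ← h2, h1]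
  have : IsIso l' := isIso_of_mono_of_isSplitEpi _
  exact hne (isIso_of_isIso_levi hG hP hP' hl' hpb)

/-- Three cosets. -/
theorem three (hA : {m : Ideal A | m.IsMaximal}.Finite) (hG : Red.IsReductive G) {p : P ⟶ G}
    (hP : Red.IsParabolic p) (hne : ¬ IsIso p) :
    ∃ g : Fin 3 → (𝟙_ (Over (Spec (CommRingCat.of A))) ⟶ G), ∀ i j : Fin 3, i ≠ j →
      ∀ x : 𝟙_ (Over (Spec (CommRingCat.of A))) ⟶ P, (g i)⁻¹ * g j ≠ x ≫ p := by
  have hpm := hP.1
  have hpmono := Tools.mono_of_isParabolic hP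
  obtain ⟨L, _, l, hl⟩ := S2997.result G P hG p hP
  obtain ⟨P', _, p', l', hP', hl'm, hpb, hl'⟩ := Tools.exists_opp hG hP hl
  obtain ⟨-, hl'mono, -, U, _, v, hU, hiso⟩ := id hl'
  have hp'm := hP'.1
  have hvm := hU.1
  have hlm := hl.1
  obtain ⟨u, hu⟩ := exists_ne_one hG hP hP' hl' hpb hU hiso hne
  obtain ⟨g, I, _, m, m', hm', hI, hIP⟩ := S8498.result hA hG p p' hP hP'
  -- `u` is not in `P`
  have h01 : ∀ x : 𝟙_ (Over (Spec (CommRingCat.of A))) ⟶ P, u ≫ v ≫ p' ≠ x ≫ p := by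
    intro x hx
    obtain ⟨a, ha1, ha2⟩ := hpb.exists_lift x (u ≫ v) (by rw [Category.assoc, hx])
    have h1 : ∀ (c : 𝟙_ (Over (Spec (CommRingCat.of A))) ⟶ L)
        (d : 𝟙_ (Over (Spec (CommRingCat.of A))) ⟶ U),
        lift c d ≫ (l' ⊗ₘ v) ≫ μ[P'] = (c ≫ l') * (d ≫ v) := by
      intro c d
      rw [Hom.mul_def, ← Category.assoc, lift_map]
    have h2 : lift a 1 ≫ (l' ⊗ₘ v) ≫ μ[P'] = lift 1 u ≫ (l' ⊗ₘ v) ≫ μ[P'] := by
      rw [h1, h1, MonObj.one_comp, MonObj.one_comp, _root_.mul_one, _root_.one_mul, ha2]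
    have h3 := (cancel_mono ((l' ⊗ₘ v) ≫ μ[P'])).1 h2
    have h4 := congrArg (· ≫ snd _ _) h3
    simp only [lift_snd] at h4
    exact hu h4.symm
  -- `g` is not in `U' P`
  have h12 : ∀ (y : 𝟙_ (Over (Spec (CommRingCat.of A))) ⟶ P')
      (x : 𝟙_ (Over (Spec (CommRingCat.of A))) ⟶ P), (y ≫ p')⁻¹ * g ≠ x ≫ p := by
    intro y x hx
    have hg : g = (y ≫ p') * (x ≫ p) := by rw [← hx]; group
    have hcj : RedSub.ConjEq (l ≫ p) (m' ≫ p') (y ≫ p') := by
      intro X t
      have ht : t = toUnit X := Subsingleton.elim _ _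
      subst ht
      constructor
      · intro h
        obtain ⟨b, hb1, hb2⟩ := hI.exists_lift
          ((toUnit X ≫ x)⁻¹ * (h ≫ l) * (toUnit X ≫ x))
          ((toUnit X ≫ y) * (h ≫ l') * (toUnit X ≫ y)⁻¹) (by
            rw [ConjTools.comp_conjBy, hg]
            simp only [MonObj.mul_comp, MonObj.comp_mul, GrpObj.inv_comp, Category.assoc, hpb.w]
            group)
        refine ⟨b, ?_⟩
        rw [← Category.assoc b, hb2]
        simp only [MonObj.mul_comp, GrpObj.inv_comp, Category.assoc, hpb.w]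
      · intro k
        have hk : (toUnit X ≫ g) * ((k ≫ m) ≫ p) * (toUnit X ≫ g)⁻¹ = k ≫ m' ≫ p' := by
          rw [← hI.w, ← Category.assoc, ConjTools.comp_conjBy]
        obtain ⟨b, hb1, hb2⟩ := hpb.exists_lift
          ((toUnit X ≫ x) * (k ≫ m) * (toUnit X ≫ x)⁻¹)
          ((toUnit X ≫ y)⁻¹ * (k ≫ m') * (toUnit X ≫ y)) (by
            simp only [MonObj.mul_comp, GrpObj.inv_comp, Category.assoc] at hk ⊢
            rw [← hk, hg]
            simp only [MonObj.comp_mul]
            group)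
        refine ⟨b, ?_⟩
        rw [hpb.w, ← Category.assoc b, hb2]
        simp only [MonObj.mul_comp, GrpObj.inv_comp, Category.assoc]
    have hmono1 := Tools.mono_of_isParabolic hIP
    have hlmono := hl.2.1
    obtain ⟨e, he⟩ := ConjTools.exists_iso_of_conjEq hcj
    have h5 : Red.IsParabolic (AGF.conjBy (y ≫ p') (l ≫ p)) := by
      have hem : IsMonHom e.hom := Tools.isMonHom_of_comp (g := m' ≫ p')
        (h := AGF.conjBy (y ≫ p') (l ≫ p)) he
      have hem' : IsMonHom e.symm.hom := inferInstanceAs (IsMonHom e.inv)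
      refine AlgBc.isParabolic_of_arrow (Grp.mkIso' e.symm) (Iso.refl _) ?_ hIP
      rw [RedSub.H648.BorBc.und_refl, Category.comp_id]
      change m' ≫ p' = e.inv ≫ AGF.conjBy (y ≫ p') (l ≫ p)
      rw [← he, Iso.inv_hom_id_assoc]
    have h6 := ConjTools.isParabolic_conjBy h5 (y ≫ p')⁻¹
    have h7 : AGF.conjBy (y ≫ p')⁻¹ (AGF.conjBy (y ≫ p') (l ≫ p)) = l ≫ p := by
      rw [ConjTools.conjBy_eq, ConjTools.comp_inn]
      have h8 := ConjTools.comp_conjBy (y ≫ p') (l ≫ p) (𝟙 L)
      rw [Category.id_comp, Category.id_comp] at h8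
      rw [h8, GrpObj.comp_inv]
      group
    rw [h7] at h6
    exact hne (isIso_of_levi_parabolic hG hP hP' hl hl' hpb h6)
  have hsym : ∀ a b : 𝟙_ (Over (Spec (CommRingCat.of A))) ⟶ G,
      (∀ x : 𝟙_ (Over (Spec (CommRingCat.of A))) ⟶ P, a⁻¹ * b ≠ x ≫ p) →
      ∀ x : 𝟙_ (Over (Spec (CommRingCat.of A))) ⟶ P, b⁻¹ * a ≠ x ≫ p := by
    intro a b h x hx
    apply h x⁻¹
    rw [GrpObj.inv_comp, ← hx]
    group
  have k01 : ∀ x : 𝟙_ (Over (Spec (CommRingCat.of A))) ⟶ P,
      (1 : 𝟙_ (Over (Spec (CommRingCat.of A))) ⟶ G)⁻¹ * (u ≫ v ≫ p') ≠ x ≫ p := by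
    intro x hx
    rw [_root_.inv_one, _root_.one_mul] at hx
    exact h01 x hx
  have k02 : ∀ x : 𝟙_ (Over (Spec (CommRingCat.of A))) ⟶ P,
      (1 : 𝟙_ (Over (Spec (CommRingCat.of A))) ⟶ G)⁻¹ * g ≠ x ≫ p := by
    intro x hx
    apply h12 1 x
    rw [MonObj.one_comp]
    exact hx
  have k12 : ∀ x : 𝟙_ (Over (Spec (CommRingCat.of A))) ⟶ P,
      (u ≫ v ≫ p')⁻¹ * g ≠ x ≫ p := by
    intro x hx
    apply h12 (u ≫ v) x
    rw [Category.assoc]
    exact hx
  refine ⟨![1, u ≫ v ≫ p', g], fun i j hij => ?_⟩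
  fin_cases i <;> fin_cases j
  · exact absurd rfl hij
  · exact k01
  · exact k02
  · exact hsym _ _ k01
  · exact absurd rfl hij
  · exact k12
  · exact hsym _ _ k02
  · exact hsym _ _ k12
  · exact absurd rfl hij

end affine

end K545.ThreeCos
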