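import Groth.Agent.Par.K545.TopHopf
import Groth.Agent.Par.K545.ThreeCos
import Groth.Agent.Par.K545.Dyn
import Groth.Agent.RedSub.H659.UVec
import Groth.Agent.RedSub.H658.DynUAff
import Groth.Agent.Sga3B.RootHomDict

/-!
# A closed additive subgroup of a reductive group with a proper parabolic subgroup
-/

set_option autoImplicit false

universe u

open CategoryTheory MonoidalCategory CartesianMonoidalCategory MonObj GrpObj AlgebraicGeometry
open scoped Polynomial TensorProduct

namespace K545.TopGa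

open Groth.Agent Groth.Agent.Sga3B Groth.Agent.Books.AffBridge Groth.Agent.Books.AffBridge2
  Groth.Agent.Books.DynBasic
  Groth.Agent.Books.DynLim Groth.Agent.RedSub.H659
open Groth.Agent.Sga3B.Parab Groth.Agent.Sga3B.Parab.Chart998 Groth.Agent.Sga3B.Parab.AffPts998
  Groth.Agent.Sga3B.Parab.Rep998 Groth.Agent.Sga3B.Parab.Dyn998
  Groth.Agent.Sga3B.Parab.DynExist998 Groth.Agent.Sga3B.Parab.DynSmooth998
open Groth.Agent.Sga3B.RootHomDict Groth.Agent.Sga3B.AffPts Groth.Agent.Sga3B.GaPts

/-- A parabolic subgroup with trivial unipotent radical is the whole group. -/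
theorem isIso_of_trivial_rad {S : Scheme.{u}} {G P L U : Over S} [GrpObj G] [GrpObj P] [GrpObj L]
    [GrpObj U] (hG : Red.IsReductive G) {p : P ⟶ G} (hP : Red.IsParabolic p) {l : L ⟶ P}
    (hl : Par.IsLevi l) {v : U ⟶ P} (hv : Par.IsUnipotentRadical v)
    (hU : ∀ (X : Over S) (x y : X ⟶ U), x = y) : IsIso p := by
  obtain ⟨P', _, p', l', hP', hl'm, hpb, hl'⟩ := Tools.exists_opp hG hP hl
  obtain ⟨hlm, hlmono, -, U₁, _, v₁, hv₁, hiso⟩ := id hl
  obtain ⟨φ, -, -⟩ := UVec.exists_iso_of_isUnipotentRadical hv₁ hv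
  have hU₁ : ∀ (X : Over S) (x y : X ⟶ U₁), x = y := by
    intro X x y
    rw [← cancel_mono φ.hom]
    exact hU _ _ _
  have : IsSplitEpi l := by
    let k : P ⟶ L ⊗ U₁ := inv ((l ⊗ₘ v₁) ≫ μ[P])
    refine ⟨⟨⟨k ≫ fst _ _, ?_⟩⟩⟩
    have h1 : k ≫ (l ⊗ₘ v₁) ≫ μ[P] = 𝟙 _ := IsIso.inv_hom_id _
    have h2 : k ≫ (l ⊗ₘ v₁) ≫ μ[P] = (k ≫ fst _ _ ≫ l) * (k ≫ snd _ _ ≫ v₁) := by
      rw [Hom.mul_def, ← Category.assoc]
      congr 1
      apply CartesianMonoidalCategory.hom_ext <;> simp
    have hvm := hv₁.1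
    have h3 : k ≫ snd _ _ ≫ v₁ = 1 := by
      rw [← Category.assoc, hU₁ _ (k ≫ snd _ _) 1, MonObj.one_comp]
    rw [h3, _root_.mul_one] at h2
    rw [Category.assoc, ← h2, h1]
  have hli : IsIso l := isIso_of_mono_of_isSplitEpi _
  have hpm := hP.1
  have hL : Red.IsParabolic (l ≫ p) := by
    have hm0 : IsMonHom (asIso l).hom := hlm
    have hm : IsMonHom (asIso l).symm.hom := inferInstanceAs (IsMonHom (asIso l).inv)
    refine AlgBc.isParabolic_of_arrow (Grp.mkIso' (asIso l).symm) (Iso.refl _) ?_ hP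
    rw [RedSub.H648.BorBc.und_refl, Category.comp_id]
    change p = inv l ≫ l ≫ p
    rw [IsIso.inv_hom_id_assoc]
  exact ThreeCos.isIso_of_levi_parabolic hG hP hP' hl hl' hpb hL

/-- Points of `Spec B` are unique if `B` is generated by the base ring. -/
theorem unique_of_surjective {R : Type u} [CommRing R] {B : Type u} [CommRing B] [Algebra R B]
    (hs : Function.Surjective (algebraMap R B)) {X : Over (Spec (CommRingCat.of R))}
    (x y : X ⟶ SpecOver R B) : x = y := by
  ext : 1
  have hm : Mono (Spec.map (CommRingCat.ofHom (algebraMap R B))) := by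
    have : IsClosedImmersion (Spec.map (CommRingCat.ofHom (algebraMap R B))) :=
      IsClosedImmersion.spec_of_surjective _ hs
    infer_instance
  exact (cancel_mono (Spec.map (CommRingCat.ofHom (algebraMap R B)))).1
    ((Over.w x).trans (Over.w y).symm)

theorem surjective_of_subsingleton {R : Type u} [CommRing R] {B : Type u} [CommRing B] [Algebra R B]
    {ε : B →ₐ[R] R} {ρ : B →ₐ[R] B[X]} (h : GrMain.IsContr ε ρ) [Algebra.FormallySmooth R B]
    [Algebra.FiniteType R B] [Subsingleton (GrSym.E ε)] :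
    Function.Surjective (algebraMap R B) := by
  obtain ⟨s, -, -, -, hbij⟩ := TopGr.exists_section_bij h
  intro b
  obtain ⟨y, rfl⟩ := hbij.2 b
  have h1 : (Algebra.ofId R (SymmetricAlgebra R (GrSym.E ε))).comp SymmetricAlgebra.algebraMapInv =
      AlgHom.id R (SymmetricAlgebra R (GrSym.E ε)) := by
    apply SymmetricAlgebra.algHom_ext
    apply LinearMap.ext
    intro e
    rw [Subsingleton.elim e 0, map_zero, map_zero]
  refine ⟨SymmetricAlgebra.algebraMapInv y, ?_⟩
  rw [← (SymmetricAlgebra.lift s).commutes]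
  congr 1
  exact AlgHom.congr_fun h1 y

/-- An additive surjection `A → R[X]` gives a closed additive subgroup. -/
theorem exists_ga_of_surj {R : Type u} [CommRing R] {A : Type u} [CommRing A] [HopfAlgebra R A]
    {G : Over (Spec (CommRingCat.of R))} [GrpObj G] (e : G ≅ SpecOver R A) [IsMonHom e.hom]
    (q : A →ₐ[R] R[X]) (hq : Function.Surjective q)
    (hadd : ∀ (C : Type u) [CommRing C] [Algebra R C] (x y : C),
        WithConv.toConv ((Polynomial.aeval (R := R) (x + y)).comp q) =
          WithConv.toConv ((Polynomial.aeval (R := R) x).comp q) *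
            WithConv.toConv ((Polynomial.aeval (R := R) y).comp q)) :
    ∃ j : Red.Ga (Spec (CommRingCat.of R)) ⟶ G, IsMonHom j ∧ IsClosedImmersion j.left := by
  refine ⟨uOf e q, ?_, isClosedImmersion_uOf e q hq⟩
  apply Groth.Agent.Sga3B.Pts.isMonHom_of_points
  intro X x y
  have key : (x * y) ≫ uOf e q ≫ e.hom = (x ≫ uOf e q ≫ e.hom) * (y ≫ uOf e q ≫ e.hom) := by
    rw [comp_uOf, comp_uOf, comp_uOf, gaFn_mul]
    have := hadd (Fn X) (Red.gaFn x) (Red.gaFn y)
    have h2 := congrArg (fun z : WithConv (A →ₐ[R] Fn X) => affPt X z.ofConv) this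
    simp only [affPt_mul] at h2
    exact h2
  rw [← cancel_mono e.hom]
  rw [Category.assoc, key, MonObj.mul_comp, Category.assoc, Category.assoc]

/-- **A reductive group over a connected semi-local ring with a proper parabolic subgroup contains a
closed subgroup `𝔾_a`.** -/
theorem exists_ga {R : Type u} [CommRing R] (hR : {m : Ideal R | m.IsMaximal}.Finite)
    [ConnectedSpace (PrimeSpectrum R)] {G P : Over (Spec (CommRingCat.of R))} [GrpObj G] [GrpObj P]
    (hG : Red.IsReductive G) {p : P ⟶ G} (hP : Red.IsParabolic p) (hne : ¬ IsIso p) :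
    ∃ j : Red.Ga (Spec (CommRingCat.of R)) ⟶ G, IsMonHom j ∧ IsClosedImmersion j.left := by
  have hGa : IsAffineHom G.hom := hG.1
  have hGs : Smooth G.hom := hG.2.1
  obtain ⟨lam, hlam, hp⟩ := Dyn.exists_cochar hG hP
  obtain ⟨U, Z, _, _, u, z, hu, hz, -, hrad, hlev⟩ := Dyn.of_isDynP hG hp
  have hGaff : IsAffine G.left := isAffine_of_isAffineHom G.hom
  obtain ⟨A, _, _, e, he⟩ := exists_hopf R G
  obtain ⟨φ, -⟩ := hu.exists_chart (chartId e)
  let ψ : U ≅ SpecOver R (A ⧸ JU (lamB lam (chartId e))) := (bcId U).symm ≪≫ φ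
  have hs : Algebra.Smooth R (A ⧸ JU (lamB lam (chartId e))) :=
    (smooth_alg _ _).1 (smooth_of_iso ψ.symm (isDynU_smooth hu))
  have hfp : Algebra.FinitePresentation R (A ⧸ JU (lamB lam (chartId e))) :=
    Algebra.Smooth.finitePresentation
  have hnt : Nontrivial (GrSym.E (UContr.eps (lamB lam (chartId e)))) := by
    by_contra hcon
    rw [not_nontrivial_iff_subsingleton] at hcon
    apply hne
    refine isIso_of_trivial_rad hG hP hlev hrad fun X x y => ?_
    rw [← cancel_mono ψ.hom]
    exact unique_of_surjective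
      (surjective_of_subsingleton (TopHopf.isContr_dd (lamB lam (chartId e)))) _ _
  obtain ⟨q, hq, hadd⟩ := TopHopf.exists_add (lamB lam (chartId e)) hR
  exact exists_ga_of_surj e q hq hadd

end K545.TopGa
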