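import Groth.Prelude.Def_Red2
import Mathlib.RingTheory.Ideal.Quotient.Operations
import Mathlib.Algebra.Module.Projective
import Mathlib.RingTheory.Spectrum.Maximal.Basic

/-!
# Sections of a vector group over a semi-local base: lifting from the closed points
-/

set_option autoImplicit false

universe u

open CategoryTheory MonoidalCategory CartesianMonoidalCategory MonObj GrpObj AlgebraicGeometry

namespace K545.VecSec

variable {A : Type u} [CommRing A]

/-- `A ⟶ ∏ A/m` is onto when `A` is semi-local. -/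
theorem pi_surjective (hA : {m : Ideal A | m.IsMaximal}.Finite) (y : ∀ m : MaximalSpectrum A, A ⧸ m.asIdeal) :
    ∃ a : A, ∀ m : MaximalSpectrum A, Ideal.Quotient.mk m.asIdeal a = y m := by
  have : Finite (MaximalSpectrum A) := by
    have := hA.to_subtype
    refine Finite.of_injective (fun m : MaximalSpectrum A =>
      (⟨m.asIdeal, m.isMaximal⟩ : {m : Ideal A | m.IsMaximal})) ?_
    intro m n h
    exact MaximalSpectrum.ext (congrArg Subtype.val h)
  have h : Pairwise fun m n : MaximalSpectrum A => IsCoprime m.asIdeal n.asIdeal := by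
    intro m n hmn
    have := m.isMaximal
    have := n.isMaximal
    exact Ideal.isCoprime_iff_sup_eq.2 (m.isMaximal.coprime_of_ne n.isMaximal fun h =>
      hmn (MaximalSpectrum.ext h))
  obtain ⟨a, ha⟩ := Ideal.pi_mkQ_surjective h y
  exact ⟨a, fun m => congrFun ha m⟩

/-- Sections of the vector group of a projective module: lifting from the closed points. -/
theorem exists_section {E : Type u} [AddCommGroup E] [Module A E] [Module.Projective A E]
    (hA : {m : Ideal A | m.IsMaximal}.Finite)
    (x : ∀ m : MaximalSpectrum A,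
      Over.mk (Spec.map (CommRingCat.ofHom (Ideal.Quotient.mk m.asIdeal))) ⟶
        (Spec (CommRingCat.of (SymmetricAlgebra A E))).asOver (Spec (CommRingCat.of A))) :
    ∃ u : 𝟙_ (Over (Spec (CommRingCat.of A))) ⟶
        (Spec (CommRingCat.of (SymmetricAlgebra A E))).asOver (Spec (CommRingCat.of A)),
      ∀ m : MaximalSpectrum A,
        toUnit (Over.mk (Spec.map (CommRingCat.ofHom (Ideal.Quotient.mk m.asIdeal)))) ≫ u = x m := by
  have hw : ∀ m : MaximalSpectrum A, (x m).left ≫
      Spec.map (CommRingCat.ofHom (algebraMap A (SymmetricAlgebra A E))) =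
      Spec.map (CommRingCat.ofHom (Ideal.Quotient.mk m.asIdeal)) := fun m => Over.w (x m)
  choose φ hφ using fun m : MaximalSpectrum A => Spec.map_surjective (x m).left
  have hφ' : ∀ m : MaximalSpectrum A, (φ m).hom.comp (algebraMap A (SymmetricAlgebra A E)) =
      Ideal.Quotient.mk m.asIdeal := by
    intro m
    have h1 : Spec.map (φ m) ≫ Spec.map (CommRingCat.ofHom (algebraMap A (SymmetricAlgebra A E))) =
        Spec.map (CommRingCat.ofHom (Ideal.Quotient.mk m.asIdeal)) :=
      (congrArg (· ≫ Spec.map (CommRingCat.ofHom (algebraMap A (SymmetricAlgebra A E)))) (hφ m)).trans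
        (hw m)
    have h2 := Spec.map_injective ((Spec.map_comp _ _).trans h1)
    exact congrArg CommRingCat.Hom.hom h2
  let Φ : ∀ m : MaximalSpectrum A, SymmetricAlgebra A E →ₐ[A] (A ⧸ m.asIdeal) := fun m =>
    { (φ m).hom with commutes' := fun a => RingHom.congr_fun (hφ' m) a }
  let g : E →ₗ[A] (∀ m : MaximalSpectrum A, A ⧸ m.asIdeal) :=
    LinearMap.pi fun m => (Φ m).toLinearMap ∘ₗ SymmetricAlgebra.ι A E
  let q : A →ₗ[A] (∀ m : MaximalSpectrum A, A ⧸ m.asIdeal) :=
    LinearMap.pi fun m => (m.asIdeal).mkQ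
  have hq : Function.Surjective q := fun y => by
    obtain ⟨a, ha⟩ := pi_surjective hA y
    exact ⟨a, funext ha⟩
  obtain ⟨ψ, hψ⟩ := Module.projective_lifting_property q g hq
  let Ψ : SymmetricAlgebra A E →ₐ[A] A := SymmetricAlgebra.lift ψ
  refine ⟨Over.homMk (Spec.map (CommRingCat.ofHom Ψ.toRingHom)) ?_, fun m => ?_⟩
  · change Spec.map _ ≫ Spec.map (CommRingCat.ofHom (algebraMap A (SymmetricAlgebra A E))) = 𝟙 _
    rw [← Spec.map_comp, ← CommRingCat.ofHom_comp]
    have : Ψ.toRingHom.comp (algebraMap A (SymmetricAlgebra A E)) = RingHom.id A := Ψ.comp_algebraMap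
    rw [this]
    exact Spec.map_id _
  · ext : 1
    refine Eq.trans ?_ (hφ m)
    refine (Spec.map_comp (CommRingCat.ofHom Ψ.toRingHom)
      (CommRingCat.ofHom (Ideal.Quotient.mk m.asIdeal))).symm.trans ?_
    congr 1
    ext1
    have h3 : (Ideal.Quotient.mkₐ A m.asIdeal).comp Ψ = Φ m := by
      apply SymmetricAlgebra.algHom_ext
      apply LinearMap.ext
      intro e
      have h4 := congrFun (LinearMap.congr_fun hψ e) m
      change Ideal.Quotient.mk m.asIdeal (Ψ (SymmetricAlgebra.ι A E e)) = Φ m (SymmetricAlgebra.ι A E e)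
      rw [show Ψ (SymmetricAlgebra.ι A E e) = ψ e from SymmetricAlgebra.lift_ι_apply ψ e]
      exact h4
    exact congrArg (fun f : SymmetricAlgebra A E →ₐ[A] (A ⧸ m.asIdeal) => f.toRingHom) h3

end K545.VecSec
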