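import Groth.Agent.RedSub.H659.GrMain
import Groth.Agent.Par.K545.VecSec
import Mathlib.RingTheory.Spectrum.Prime.FreeLocus

/-!
# The top degree of a smooth positively graded algebra over a connected semi-local ring

* `exists_surj`: over a connected semi-local ring, a nonzero finitely generated projective module has a
  surjective linear functional;
* `exists_section_bij`: `B` is the symmetric algebra on homogeneous elements;
* `exists_theta`: a surjection `B → R[X]` which is linear on the top degree.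
-/

set_option autoImplicit false

universe u

open Polynomial

namespace K545.TopGr

open Groth.Agent.RedSub.H659.SymPow Groth.Agent.RedSub.H659.GrSym Groth.Agent.RedSub.H659.GrMain

section functional

variable {R : Type u} [CommRing R]

/-- A functional not vanishing modulo a given maximal ideal. -/
theorem exists_functional [ConnectedSpace (PrimeSpectrum R)] (M : Type u) [AddCommGroup M] [Module R M]
    [Module.Finite R M] [Module.Projective R M] [Nontrivial M] (m : Ideal R) [hm : m.IsMaximal] :
    ∃ (f : M →ₗ[R] R) (x : M), f x ∉ m := by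
  by_contra hcon
  push Not at hcon
  have hfp : Module.FinitePresentation R M := Module.finitePresentation_of_projective R M
  have h1 : ∀ p : PrimeSpectrum R, Module.rankAtStalk (R := R) M p ≠ 0 := by
    intro p hp
    have h2 : Module.rankAtStalk (R := R) M = 0 := by
      ext q
      rw [(Module.isLocallyConstant_rankAtStalk (R := R) (M := M)).apply_eq_of_isPreconnected
        isPreconnected_univ (Set.mem_univ q) (Set.mem_univ p), hp]
      rfl
    rw [Module.rankAtStalk_eq_zero_iff_subsingleton] at h2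
    exact not_subsingleton M h2
  let p : PrimeSpectrum R := ⟨m, hm.isPrime⟩
  have h3 : p ∈ Module.support R M :=
    (Module.rankAtStalk_pos_iff_mem_support p).1 (Nat.pos_of_ne_zero (h1 p))
  rw [Module.support_eq_zeroLocus, PrimeSpectrum.mem_zeroLocus] at h3
  -- every element is in `m M`
  obtain ⟨s, hs⟩ := Module.projective_def.1 (inferInstance : Module.Projective R M)
  have h4 : (⊤ : Submodule R M) ≤ m • ⊤ := by
    intro x _
    rw [← hs x, Finsupp.linearCombination_apply, Finsupp.sum]
    refine Submodule.sum_mem _ fun y _ => Submodule.smul_mem_smul ?_ trivial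
    exact hcon ((Finsupp.lapply y).comp s) x
  obtain ⟨r, hr1, hr2⟩ := Submodule.exists_sub_one_mem_and_smul_eq_zero_of_fg_of_le_smul m
    (⊤ : Submodule R M) (Module.finite_def.1 inferInstance) h4
  have h5 : r ∈ Module.annihilator R M := by
    rw [Module.mem_annihilator]
    intro x
    exact hr2 x trivial
  have h6 : r ∈ m := h3 h5
  have h7 : (1 : R) ∈ m := by
    have := m.sub_mem h6 hr1
    rwa [sub_sub_cancel] at this
  exact hm.ne_top ((Ideal.eq_top_iff_one m).2 h7)

/-- Over a connected semi-local ring a nonzero finitely generated projective module has a surjective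
functional. -/
theorem exists_surj (hR : {m : Ideal R | m.IsMaximal}.Finite) [ConnectedSpace (PrimeSpectrum R)]
    (M : Type u) [AddCommGroup M] [Module R M] [Module.Finite R M] [Module.Projective R M]
    [Nontrivial M] : ∃ φ : M →ₗ[R] R, Function.Surjective φ := by
  have h0 : ∀ m : MaximalSpectrum R, ∃ (f : M →ₗ[R] R) (x : M), f x ∉ m.asIdeal := fun m => by
    have := m.isMaximal
    exact exists_functional M m.asIdeal
  choose f x hfx using h0
  let g : M →ₗ[R] (∀ m : MaximalSpectrum R, R ⧸ m.asIdeal) :=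
    LinearMap.pi fun m => (m.asIdeal).mkQ ∘ₗ f m
  let q : R →ₗ[R] (∀ m : MaximalSpectrum R, R ⧸ m.asIdeal) :=
    LinearMap.pi fun m => (m.asIdeal).mkQ
  have hq : Function.Surjective q := fun y => by
    obtain ⟨a, ha⟩ := VecSec.pi_surjective hR y
    exact ⟨a, funext ha⟩
  obtain ⟨φ, hφ⟩ := Module.projective_lifting_property q g hq
  refine ⟨φ, ?_⟩
  rw [← LinearMap.range_eq_top]
  by_contra hne
  obtain ⟨m, hm, hle⟩ := Ideal.exists_le_maximal (LinearMap.range φ : Ideal R) hne
  have h1 : φ (x ⟨m, hm⟩) ∈ m := hle ⟨_, rfl⟩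
  have h2 := congrFun (LinearMap.congr_fun hφ (x ⟨m, hm⟩)) ⟨m, hm⟩
  change Ideal.Quotient.mk m (φ (x ⟨m, hm⟩)) = Ideal.Quotient.mk m (f ⟨m, hm⟩ (x ⟨m, hm⟩)) at h2
  rw [Ideal.Quotient.eq_zero_iff_mem.2 h1, eq_comm, Ideal.Quotient.eq_zero_iff_mem] at h2
  exact hfx ⟨m, hm⟩ h2

end functional

section graded

variable {R : Type u} [CommRing R] {B : Type u} [CommRing B] [Algebra R B]
  {ε : B →ₐ[R] R} {ρ : B →ₐ[R] B[X]}

/-- decomposable elements of degree `n` -/
theorem pr_sq_mem (h : IsContr ε ρ) (T : Subalgebra R B) (n : ℕ)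
    (ih : ∀ i, 0 < i → i < n → ∀ b, pr ρ i b ∈ T) {y : B} (hy : y ∈ I ε ^ 2) : pr ρ n y ∈ T := by
  rw [pow_two] at hy
  refine Submodule.mul_induction_on hy ?_ ?_
  · intro a ha b hb
    rw [pr_mul]
    refine Subalgebra.sum_mem _ fun z hz => ?_
    rw [Finset.mem_antidiagonal] at hz
    by_cases h1 : z.1 = 0
    · rw [h1, pr_zero_of_mem h ha, zero_mul]
      exact zero_mem _
    by_cases h2 : z.2 = 0
    · rw [h2, pr_zero_of_mem h hb, mul_zero]
      exact zero_mem _
    exact mul_mem (ih z.1 (by omega) (by omega) a) (ih z.2 (by omega) (by omega) b)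
  · intro a b ha hb
    rw [map_add]
    exact add_mem ha hb

/-- An algebra homomorphism vanishing in degrees `< n` vanishes on the decomposable elements of
degree `n`. -/
theorem map_pr_sq (h : IsContr ε ρ) {C : Type u} [CommRing C] [Algebra R C] (θ : B →ₐ[R] C) (n : ℕ)
    (ih : ∀ i, 0 < i → i < n → ∀ b, θ (pr ρ i b) = 0) {y : B} (hy : y ∈ I ε ^ 2) :
    θ (pr ρ n y) = 0 := by
  rw [pow_two] at hy
  refine Submodule.mul_induction_on hy ?_ ?_
  · intro a ha b hb
    rw [pr_mul, map_sum]
    refine Finset.sum_eq_zero fun z hz => ?_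
    rw [Finset.mem_antidiagonal] at hz
    rw [map_mul]
    by_cases h1 : z.1 = 0
    · rw [h1, pr_zero_of_mem h ha, map_zero, zero_mul]
    by_cases h2 : z.2 = 0
    · rw [h2, pr_zero_of_mem h hb, map_zero, mul_zero]
    rw [ih z.1 (by omega) (by omega) a, zero_mul]
  · intro a b ha hb
    rw [map_add, map_add, ha, hb, add_zero]

/-- `B` is the symmetric algebra on a homogeneous section. -/
theorem exists_section_bij (h : IsContr ε ρ) [Algebra.FormallySmooth R B] [Algebra.FiniteType R B] :
    ∃ s : E ε →ₗ[R] B, (∀ e, s e ∈ I ε) ∧ (∀ x : I ε, (x : B) - s (q ε x) ∈ I ε ^ 2) ∧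
      (∀ (x : I ε) (n : ℕ), pr ρ n (x : B) = x → pr ρ n (s (q ε x)) = s (q ε x)) ∧
      Function.Bijective (SymmetricAlgebra.lift s) := by
  have hfin := finite_E ε
  have hproj := projective_E ε
  obtain ⟨s, hs1, hs2, hs3⟩ := exists_section h
  refine ⟨s, hs1, hs2, hs3, ?_⟩
  let φ : SymmetricAlgebra R (E ε) →ₐ[R] B := SymmetricAlgebra.lift s
  have hφι : ∀ e, φ (SymmetricAlgebra.ι R (E ε) e) = s e := fun e =>
    SymmetricAlgebra.lift_ι_apply s e
  have hsurj' : ∀ n b, pr ρ n b ∈ φ.range := by
    intro n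
    induction n using Nat.strong_induction_on with
    | _ n ih =>
      intro b
      by_cases hn : n = 0
      · subst hn
        rw [pr_zero h]
        exact Subalgebra.algebraMap_mem _ _
      let x : I ε := ⟨pr ρ n b, pr_mem_I_of_pos h hn⟩
      have hx : pr ρ n (x : B) = x := pr_pr_same h n b
      have h1 := pr_sq_mem h φ.range n (fun i _ hi b => ih i hi b) (hs2 x)
      rw [map_sub, hx, hs3 x n hx] at h1
      have h2 : s (q ε x) ∈ φ.range := ⟨SymmetricAlgebra.ι R (E ε) (q ε x), hφι _⟩
      have h3 := add_mem h1 h2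
      rwa [sub_add_cancel] at h3
  have hsurj : Function.Surjective φ := by
    intro b
    have : b ∈ φ.range := by
      rw [← sum_pr' h b]
      exact Subalgebra.sum_mem _ fun n _ => hsurj' n b
    exact this
  have hεφ : ε.comp φ = SymmetricAlgebra.algebraMapInv := by
    ext e
    change ε (φ (SymmetricAlgebra.ι R (E ε) e)) = _
    rw [hφι]
    change _ = SymmetricAlgebra.algebraMapInv (SymmetricAlgebra.ι R (E ε) e)
    rw [SymmetricAlgebra.algebraMapInv_ι]
    exact hs1 e
  have hmap : (aug R (E ε)).map φ ≤ I ε := by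
    rw [Ideal.map_le_iff_le_comap]
    intro x hx
    have := DFunLike.congr_fun hεφ x
    change ε (φ x) = 0
    exact this.trans hx
  have hker : RingHom.ker φ ≤ aug R (E ε) ^ 2 := by
    intro x hx
    obtain ⟨r, e, hre⟩ := exists_decomp R (E ε) x
    have h1 : φ (x - algebraMap R _ r - SymmetricAlgebra.ι R (E ε) e) ∈ I ε ^ 2 := by
      have h2 := Ideal.mem_map_of_mem φ hre
      rw [Ideal.map_pow] at h2
      exact Ideal.pow_right_mono hmap 2 h2
    rw [map_sub, map_sub, show φ x = 0 from hx, AlgHom.commutes, hφι, zero_sub] at h1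
    have h3 : r = 0 := by
      have h4 : ε (-algebraMap R B r - s e) = 0 := Ideal.pow_le_self two_ne_zero h1
      rw [map_sub, map_neg, AlgHom.commutes, show ε (s e) = 0 from hs1 e] at h4
      simpa using h4
    subst h3
    obtain ⟨y, rfl⟩ := q_surjective ε e
    rw [map_zero, neg_zero, zero_sub] at h1
    have h5 := add_mem (hs2 y) (neg_mem h1)
    rw [neg_neg, sub_add_cancel] at h5
    rw [(q_eq_zero_iff ε y).2 h5, map_zero, map_zero, sub_zero, sub_zero] at hre
    exact hre
  have hinj : Function.Injective φ := by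
    rw [injective_iff_map_eq_zero]
    intro x hx
    apply eq_zero_of_forall_mem_pow R (E ε)
    intro n
    exact ker_le_pow φ hsurj _ hker n hx
  exact ⟨hinj, hsurj⟩

/-- The homogeneous components of the cotangent module. -/
theorem exists_comp (h : IsContr ε ρ) : ∃ π : ℕ → (E ε →ₗ[R] E ε),
    ∀ (n : ℕ) (x : I ε), π n (q ε x) = q ε ⟨pr ρ n (x : B), pr_mem_I h x.2 n⟩ := by
  let prI : ℕ → I ε →ₗ[R] I ε := fun n =>
    { toFun := fun x => ⟨pr ρ n x, pr_mem_I h x.2 n⟩
      map_add' := fun x y => by ext; simp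
      map_smul' := fun r x => by
        apply Subtype.ext
        change pr ρ n ((r • x : I ε) : B) = ((r • (⟨pr ρ n x, pr_mem_I h x.2 n⟩ : I ε) : I ε) : B)
        rw [coe_smul_I, coe_smul_I, ← Algebra.smul_def, map_smul, Algebra.smul_def] }
  have h0 : ∀ n, ∃ g : E ε →ₗ[R] E ε, ∀ x, g (q ε x) = ((q ε).comp (prI n)) x := fun n =>
    exists_desc ε ((q ε).comp (prI n)) fun x hx => (q_eq_zero_iff ε _).2 (pr_mem_sq h hx n)
  choose π hπ using h0
  exact ⟨π, fun n x => hπ n x⟩

/-- **The surjection to `R[X]` given by the top degree.** -/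
theorem exists_theta (hR : {m : Ideal R | m.IsMaximal}.Finite) [ConnectedSpace (PrimeSpectrum R)]
    (h : IsContr ε ρ) [Algebra.FormallySmooth R B] [Algebra.FiniteType R B] [Nontrivial (E ε)] :
    ∃ (n : ℕ) (θ : B →ₐ[R] R[X]), 0 < n ∧ Function.Surjective θ ∧
      (∀ i, 0 < i → i < n → ∀ b, θ (pr ρ i b) = 0) ∧
      (∀ b, ∃ r : R, θ (pr ρ n b) = r • X) ∧
      (∀ (C : Type u) [CommRing C] [Algebra R C] (f g : B →ₐ[R] C),
        (∀ i, 0 < i → i ≤ n → ∀ b, f (pr ρ i b) = g (pr ρ i b)) → f = g) := by
  classical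
  have hfin := finite_E ε
  have hproj := projective_E ε
  obtain ⟨s, hs1, hs2, hs3, hbij⟩ := exists_section_bij h
  obtain ⟨π, hπ⟩ := exists_comp h
  obtain ⟨N, hN⟩ := exists_bound h
  have hπN : ∀ n, N ≤ n → π n = 0 := by
    intro n hn
    apply LinearMap.ext
    intro e
    obtain ⟨x, rfl⟩ := q_surjective ε e
    rw [hπ, LinearMap.zero_apply, q_eq_zero_iff]
    exact hN n hn x x.2
  have hππ : ∀ m n e, π m (π n e) = if n = m then π n e else 0 := by
    intro m n e
    obtain ⟨x, rfl⟩ := q_surjective ε e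
    rw [hπ, hπ]
    have h1 : pr ρ m (pr ρ n (x : B)) = if n = m then pr ρ n (x : B) else 0 := pr_pr h m n x
    by_cases hmn : n = m
    · subst hmn
      rw [if_pos rfl]
      congr 1
      ext
      exact pr_pr_same h n x
    · rw [if_neg hmn] at h1 ⊢
      rw [q_eq_zero_iff]
      change pr ρ m (pr ρ n (x : B)) ∈ _
      rw [h1]
      exact zero_mem _
  have hπ0 : π 0 = 0 := by
    apply LinearMap.ext
    intro e
    obtain ⟨x, rfl⟩ := q_surjective ε e
    rw [hπ, LinearMap.zero_apply, q_eq_zero_iff]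
    change pr ρ 0 (x : B) ∈ _
    rw [pr_zero_of_mem h x.2]
    exact zero_mem _
  have hsum : ∀ e, ∑ n ∈ Finset.range N, π n e = e := by
    intro e
    obtain ⟨x, rfl⟩ := q_surjective ε e
    let M : ℕ := max N ((ρ (x : B)).natDegree + 1)
    have h1 : ∑ n ∈ Finset.range N, π n (q ε x) = ∑ n ∈ Finset.range M, π n (q ε x) := by
      apply Finset.sum_subset (Finset.range_subset_range.2 (by omega))
      intro n _ hn
      rw [Finset.mem_range, not_lt] at hn
      rw [hπN n hn, LinearMap.zero_apply]
    rw [h1]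
    simp_rw [hπ]
    rw [← map_sum]
    congr 1
    ext
    rw [Submodule.coe_sum]
    apply sum_pr h
    intro n hn
    exact pr_eq_zero_of_lt (by omega)
  -- homogeneous components of the section
  have hsπ : ∀ n e, pr ρ n (s (π n e)) = s (π n e) := by
    intro n e
    obtain ⟨x, rfl⟩ := q_surjective ε e
    rw [hπ]
    exact hs3 _ n (pr_pr_same h n x)
  -- the top degree
  have hex : ∃ n, n ≤ N ∧ π n ≠ 0 := by
    by_contra hcon
    push Not at hcon
    obtain ⟨e, he⟩ := exists_ne (0 : E ε)
    apply he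
    rw [← hsum e]
    refine Finset.sum_eq_zero fun n hn => ?_
    rw [hcon n (Finset.mem_range.1 hn).le, LinearMap.zero_apply]
  obtain ⟨n₀, hn₀N, hn₀⟩ := hex
  let n : ℕ := Nat.findGreatest (fun i => π i ≠ 0) N
  have hn1 : π n ≠ 0 := Nat.findGreatest_spec (P := fun i => π i ≠ 0) hn₀N hn₀
  have hn2 : ∀ m, n < m → π m = 0 := by
    intro m hm
    by_cases hmN : m ≤ N
    · by_contra hne
      exact Nat.findGreatest_is_greatest (P := fun i => π i ≠ 0) hm hmN hne
    · exact hπN m (by omega)
  have hnpos : 0 < n := by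
    rcases Nat.eq_zero_or_pos n with h0 | h0
    · rw [h0] at hn1
      exact absurd hπ0 hn1
    · exact h0
  -- the functional
  let F : Submodule R (E ε) := LinearMap.range (π n)
  have hFfin : Module.Finite R F := inferInstance
  have hFproj : Module.Projective R F := by
    refine Module.Projective.of_split F.subtype (π n).rangeRestrict ?_
    apply LinearMap.ext
    rintro ⟨_, e, rfl⟩
    apply Subtype.ext
    change π n (π n e) = π n e
    rw [hππ, if_pos rfl]
  have hFnt : Nontrivial F := by
    rw [Submodule.nontrivial_iff_ne_bot]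
    intro hbot
    exact hn1 (LinearMap.range_eq_bot.1 hbot)
  obtain ⟨φ₀, hφ₀⟩ := exists_surj hR F
  let φ : E ε →ₗ[R] R := φ₀ ∘ₗ (π n).rangeRestrict
  have hφsurj : Function.Surjective φ := hφ₀.comp (LinearMap.surjective_rangeRestrict _)
  have hφπ : ∀ m, m ≠ n → ∀ e, φ (π m e) = 0 := by
    intro m hm e
    have h1 : (π n).rangeRestrict (π m e) = 0 := by
      apply Subtype.ext
      change π n (π m e) = 0
      rw [hππ, if_neg hm]
    change φ₀ _ = 0
    rw [h1, map_zero]
  -- the algebra homomorphism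
  let e₀ : SymmetricAlgebra R (E ε) ≃ₐ[R] B := AlgEquiv.ofBijective (SymmetricAlgebra.lift s) hbij
  have he₀ : ∀ e, e₀.symm (s e) = SymmetricAlgebra.ι R (E ε) e := by
    intro e
    rw [AlgEquiv.symm_apply_eq]
    exact (SymmetricAlgebra.lift_ι_apply s e).symm
  let ψ : E ε →ₗ[R] R[X] := (LinearMap.toSpanSingleton R R[X] X) ∘ₗ φ
  let θ : B →ₐ[R] R[X] := (SymmetricAlgebra.lift ψ).comp e₀.symm.toAlgHom
  have hθs : ∀ e, θ (s e) = φ e • X := by
    intro e
    change SymmetricAlgebra.lift ψ (e₀.symm (s e)) = _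
    rw [he₀, SymmetricAlgebra.lift_ι_apply]
    rfl
  have hlow : ∀ i, 0 < i → i < n → ∀ b, θ (pr ρ i b) = 0 := by
    intro i
    induction i using Nat.strong_induction_on with
    | _ i ih =>
      intro hi0 hin b
      let x : I ε := ⟨pr ρ i b, pr_mem_I_of_pos h hi0.ne'⟩
      have hx : pr ρ i (x : B) = x := pr_pr_same h i b
      have h1 := map_pr_sq h θ i (fun j hj0 hji b => ih j hji hj0 (hji.trans hin) b) (hs2 x)
      rw [map_sub, hx, hs3 x i hx, map_sub, hθs] at h1
      have h2 : q ε x = π i (q ε x) := by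
        rw [hπ]
        congr 1
        ext
        exact hx.symm
      rw [h2, hφπ i hin.ne, zero_smul, sub_zero] at h1
      exact h1
  refine ⟨n, θ, hnpos, ?_, hlow, ?_, ?_⟩
  · rw [← AlgHom.range_eq_top, eq_top_iff, ← Polynomial.adjoin_X, Algebra.adjoin_le_iff,
      Set.singleton_subset_iff]
    obtain ⟨e, he⟩ := hφsurj 1
    exact ⟨s e, (hθs e).trans (by rw [he, one_smul])⟩
  · intro b
    let x : I ε := ⟨pr ρ n b, pr_mem_I_of_pos h hnpos.ne'⟩
    have hx : pr ρ n (x : B) = x := pr_pr_same h n b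
    have h1 := map_pr_sq h θ n hlow (hs2 x)
    rw [map_sub, hx, hs3 x n hx, map_sub, hθs, sub_eq_zero] at h1
    exact ⟨_, h1⟩
  · intro C _ _ f g hfg
    have h1 : f.comp (SymmetricAlgebra.lift s) = g.comp (SymmetricAlgebra.lift s) := by
      apply SymmetricAlgebra.algHom_ext
      apply LinearMap.ext
      intro e
      change f (SymmetricAlgebra.lift s (SymmetricAlgebra.ι R (E ε) e)) =
        g (SymmetricAlgebra.lift s (SymmetricAlgebra.ι R (E ε) e))
      rw [SymmetricAlgebra.lift_ι_apply, ← hsum e, map_sum, map_sum, map_sum]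
      refine Finset.sum_congr rfl fun i _ => ?_
      by_cases h0 : i = 0
      · rw [h0, hπ0, LinearMap.zero_apply, map_zero, map_zero, map_zero]
      by_cases hin : i ≤ n
      · rw [← hsπ i e]
        exact hfg i (Nat.pos_of_ne_zero h0) hin _
      · rw [hn2 i (by omega), LinearMap.zero_apply, map_zero, map_zero, map_zero]
    apply AlgHom.ext
    intro b
    obtain ⟨y, rfl⟩ := hbij.2 b
    exact DFunLike.congr_fun h1 y

end graded

end K545.TopGr
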