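import Groth.Agent.Par.K545.TopGr
import Groth.Agent.RedSub.H659.UContr
import Groth.Agent.RedSub.H658.UGrad
import Groth.Agent.Books.DynCell

/-!
# The additive group in the top degree of `U(λ)`: Hopf algebras

`exists_add`: `A` a Hopf algebra over a connected semi-local ring `R`, `l` a cocharacter with `A ⧸ JU l`
smooth and not trivial; there is an additive surjection `A → R[X]`, additive for the group law.
-/

set_option autoImplicit false

universe u

open TensorProduct WithConv LaurentPolynomial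
open Groth.Agent.Books.DynBasic Groth.Agent.Books.DynLim Groth.Agent.Books.DynCell
open Groth.Agent.RedSub.H658.UGrad Groth.Agent.RedSub.H659

namespace K545.TopHopf

variable {R : Type u} [CommRing R] {A : Type u} [CommRing A] [HopfAlgebra R A]
variable (l : A →ₐc[R] R[T;T⁻¹])

theorem isContr_dd : GrMain.IsContr (UContr.eps l) (dd l) where
  eval_one := (isGrad_dd l).eval_one
  coassoc := (isGrad_dd l).coact
  coeff_zero := by
    intro b
    obtain ⟨a, rfl⟩ := Ideal.Quotient.mk_surjective b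
    have h1 := coeff_dd_mk l a 0
    rw [h1, UContr.eps_mk]
    exact UContr.mk_pr_zero l a

theorem pr_dd_mk (a : A) (n : ℕ) : GrMain.pr (dd l) n (Ideal.Quotient.mk (JU l) a) =
    Ideal.Quotient.mk (JU l) (pr l n a) := coeff_dd_mk l a n

section conv

variable {C : Type u} [CommRing C] [Algebra R C]

theorem mul_ofConv_apply (f g : WithConv (A →ₐ[R] C)) (a : A) : (f * g).ofConv a =
    (Algebra.TensorProduct.lmul' R) (Algebra.TensorProduct.map f.ofConv g.ofConv
      (Coalgebra.comul (R := R) a)) := by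
  rw [AlgHom.convMul_def]
  rfl

theorem one_ofConv_apply (a : A) : (1 : WithConv (A →ₐ[R] C)).ofConv a =
    algebraMap R C (Coalgebra.counit (R := R) a) := by
  rw [AlgHom.convOne_def]
  rfl

/-- Points which vanish in the degrees `< n` are additive in the degrees `≤ n`. -/
theorem mul_apply (n : ℕ) (f g : WithConv (A →ₐ[R] C))
    (hf0 : ∀ i : ℤ, i < n → i ≠ 0 → ∀ a ∈ gr l i, f.ofConv a = 0)
    (hf1 : ∀ a ∈ gr l 0, f.ofConv a = algebraMap R C (Coalgebra.counit (R := R) a))
    (hg0 : ∀ i : ℤ, i < n → i ≠ 0 → ∀ a ∈ gr l i, g.ofConv a = 0)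
    (hg1 : ∀ a ∈ gr l 0, g.ofConv a = algebraMap R C (Coalgebra.counit (R := R) a))
    {j : ℤ} (hj0 : 0 < j) (hjn : j ≤ n) {a : A} (ha : a ∈ gr l j) :
    (f * g).ofConv a = f.ofConv a + g.ofConv a := by
  let c : WithConv (A →ₐ[R] C) → WithConv (A →ₐ[R] C) → (A ⊗[R] A →ₗ[R] C) := fun f g =>
    (Algebra.TensorProduct.lmul' R).toLinearMap ∘ₗ
      (Algebra.TensorProduct.map f.ofConv g.ofConv).toLinearMap
  have hc : ∀ f g x y, c f g (x ⊗ₜ y) = f.ofConv x * g.ofConv y := by
    intro f g x y
    change (Algebra.TensorProduct.lmul' R) (Algebra.TensorProduct.map f.ofConv g.ofConv (x ⊗ₜ y)) = _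
    rw [Algebra.TensorProduct.map_tmul, Algebra.TensorProduct.lmul'_apply_tmul]
  have hcm : ∀ f g, c f g (Coalgebra.comul (R := R) a) = (f * g).ofConv a := fun f g =>
    (mul_ofConv_apply f g a).symm
  have key : ∀ z ∈ T2 l j, c f g z = c f 1 z + c 1 g z := by
    intro z hz
    induction hz using Submodule.span_induction with
    | zero => rw [map_zero, map_zero, map_zero, add_zero]
    | add x y _ _ hx hy =>
      rw [map_add, map_add, map_add, hx, hy]
      ring
    | smul r x _ hx =>
      rw [map_smul, map_smul, map_smul, hx, smul_add]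
    | mem x hx =>
      obtain ⟨s, t, x, hx, y, hy, hst, rfl⟩ := hx
      rw [hc, hc, hc, one_ofConv_apply, one_ofConv_apply]
      have hcu : ∀ {i : ℤ}, i ≠ 0 → ∀ {w : A}, w ∈ gr l i → Coalgebra.counit (R := R) w = 0 :=
        fun hi _ hw => counit_of_mem_gr l hi hw
      by_cases hs : s = 0
      · subst hs
        have ht : t ≠ 0 := by omega
        rw [hf1 x hx, hcu ht hy, map_zero, mul_zero, zero_add]
      · by_cases ht : t = 0
        · subst ht
          rw [hg1 y hy, hcu hs hx, map_zero, zero_mul, add_zero]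
        · rw [hcu hs hx, hcu ht hy, map_zero, mul_zero, zero_mul, add_zero]
          by_cases hsn : s < n
          · rw [hf0 s hsn hs x hx, zero_mul]
          · rw [hg0 t (by omega) ht y hy, mul_zero]
  have h1 := key _ (comul_mem_T2 l ha)
  rw [hcm, hcm, hcm, _root_.mul_one, _root_.one_mul] at h1
  exact h1

end conv

/-- **An additive surjection `A → R[X]`.** -/
theorem exists_add (hR : {m : Ideal R | m.IsMaximal}.Finite) [ConnectedSpace (PrimeSpectrum R)]
    [Algebra.Smooth R (A ⧸ JU l)] [Nontrivial (GrSym.E (UContr.eps l))] :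
    ∃ q : A →ₐ[R] Polynomial R, Function.Surjective q ∧
      ∀ (C : Type u) [CommRing C] [Algebra R C] (x y : C),
        toConv ((Polynomial.aeval (R := R) (x + y)).comp q) =
          toConv ((Polynomial.aeval (R := R) x).comp q) *
            toConv ((Polynomial.aeval (R := R) y).comp q) := by
  have : Algebra.FinitePresentation R (A ⧸ JU l) := Algebra.Smooth.finitePresentation
  obtain ⟨n, θ, hn, hθ, hlow, htop, hext⟩ := TopGr.exists_theta hR (isContr_dd l)
  refine ⟨θ.comp (Ideal.Quotient.mkₐ R (JU l)), hθ.comp (Ideal.Quotient.mkₐ_surjective R _), ?_⟩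
  intro C _ _ x y
  -- membership in `U`
  let P : C → WithConv (A →ₐ[R] C) := fun c =>
    toConv ((Polynomial.aeval (R := R) c).comp (θ.comp (Ideal.Quotient.mkₐ R (JU l))))
  have hP : ∀ c a, (P c).ofConv a = Polynomial.aeval c (θ (Ideal.Quotient.mk (JU l) a)) :=
    fun _ _ => rfl
  have hJ : ∀ c, ∀ a ∈ JU l, (P c).ofConv a = 0 := by
    intro c a ha
    rw [hP, Ideal.Quotient.eq_zero_iff_mem.2 ha, map_zero, map_zero]
  have hU : ∀ c, P c ∈ USub l C := fun c =>
    (mem_USub l _).2 ((vanish_JU_iff l _).1 (hJ c))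
  have hlim : ∀ c, (∀ i < 0, ∀ a, (P c).ofConv (pr l i a) = 0) ∧
      ∀ a, (P c).ofConv (pr l 0 a) = algebraMap R C (Coalgebra.counit a) := fun c =>
    (limIsOne_iff l _).1 ((vanish_JU_iff l _).1 (hJ c))
  have hmk : ∀ (i : ℕ) (a : A), a ∈ gr l i →
      GrMain.pr (dd l) i (Ideal.Quotient.mk (JU l) a) = Ideal.Quotient.mk (JU l) a := by
    intro i a ha
    rw [pr_dd_mk, pr_of_mem_same l ha]
  have h0 : ∀ c (i : ℤ), i < n → i ≠ 0 → ∀ a ∈ gr l i, (P c).ofConv a = 0 := by
    intro c i hin hi0 a ha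
    by_cases hi : i < 0
    · have h1 := (hlim c).1 i hi a
      rwa [pr_of_mem_same l ha] at h1
    · obtain ⟨m, rfl⟩ := Int.eq_ofNat_of_zero_le (not_lt.1 hi)
      rw [hP, ← hmk m a ha, hlow m (by omega) (by omega), map_zero]
  have h1 : ∀ c, ∀ a ∈ gr l 0, (P c).ofConv a = algebraMap R C (Coalgebra.counit (R := R) a) := by
    intro c a ha
    have h1 := (hlim c).2 a
    rwa [pr_of_mem_same l ha] at h1
  change P (x + y) = P x * P y
  -- both sides factor through `A ⧸ JU`
  have hJ2 : ∀ a ∈ JU l, (P x * P y).ofConv a = 0 := by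
    have h2 : P x * P y ∈ USub l C := mul_mem (hU x) (hU y)
    exact (vanish_JU_iff l _).2 ((mem_USub l _).1 h2)
  let H₂ : A ⧸ JU l →ₐ[R] C := Ideal.Quotient.liftₐ (JU l) (P x * P y).ofConv hJ2
  have hH₂ : ∀ a, H₂ (Ideal.Quotient.mk (JU l) a) = (P x * P y).ofConv a := fun _ => rfl
  have hH : (Polynomial.aeval (R := R) (x + y)).comp θ = H₂ := by
    apply hext
    intro i hi0 hin b
    obtain ⟨a, rfl⟩ := Ideal.Quotient.mk_surjective b
    rw [pr_dd_mk]
    have ha := pr_mem_gr l i a
    rw [hH₂, mul_apply l n (P x) (P y) (h0 x) (h1 x) (h0 y) (h1 y) (by omega) (by omega) ha]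
    change (P (x + y)).ofConv _ = _
    rcases lt_or_eq_of_le hin with hlt | heq
    · rw [h0 _ i (by omega) (by omega) _ ha, h0 _ i (by omega) (by omega) _ ha,
        h0 _ i (by omega) (by omega) _ ha, add_zero]
    · subst heq
      rw [hP, hP, hP, ← pr_dd_mk]
      obtain ⟨r, hr⟩ := htop (Ideal.Quotient.mk (JU l) a)
      rw [hr, map_smul, map_smul, map_smul, Polynomial.aeval_X, Polynomial.aeval_X,
        Polynomial.aeval_X, smul_add]
  apply WithConv.ofConv_injective
  apply AlgHom.ext
  intro a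
  exact (DFunLike.congr_fun hH (Ideal.Quotient.mk (JU l) a)).trans (hH₂ a)

end K545.TopHopf
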